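import Groth.Agent.ModPairLim.ProperModel
import Groth.Agent.ModPairFrac.Basic
import Groth.Agent.LimProper.Main
import Groth.Agent.LimMore.Hom
import Groth.Agent.LimMore.OverBase
import Groth.Agent.LimModel.Main

set_option autoImplicit false
set_option backward.isDefEq.respectTransparency false
set_option backward.isDefEq.respectTransparency.types false

/-!
Abstract admissible blow-ups descend along affine-transition limits.
-/

universe u

open CategoryTheory CategoryTheory.Limits AlgebraicGeometry ModPair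

namespace Groth.Agent.ModPairLim

theorem mono_ι_comp {X Y : Scheme.{u}} (f : X ⟶ Y) (U : Y.Opens) (V : X.Opens) (hV : V = f ⁻¹ᵁ U)
    [IsIso (f ∣_ U)] : Mono (V.ι ≫ f) := by
  subst hV
  rw [← morphismRestrict_ι]
  infer_instance

/-- `IsIso (_ ∣_ _)` is stable under base change. -/
theorem isIso_restrict_of_isPullback {A B A' B' : Scheme.{u}} {q : A' ⟶ A} {f' : A' ⟶ B'} {f : A ⟶ B}
    {π : B' ⟶ B} (h : IsPullback q f' f π) (U : B.Opens) [IsIso (f ∣_ U)] :
    IsIso (f' ∣_ π ⁻¹ᵁ U) := by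
  have hbig := (isPullback_morphismRestrict f' (π ⁻¹ᵁ U)).flip.paste_horiz h
  have hs' := (isPullback_morphismRestrict f U).flip
  let v : (π ⁻¹ᵁ U).toScheme ⟶ U.toScheme := π ∣_ U
  have hv : v ≫ U.ι = (π ⁻¹ᵁ U).ι ≫ π := morphismRestrict_ι _ _
  let a := hs'.lift ((f' ⁻¹ᵁ π ⁻¹ᵁ U).ι ≫ q) ((f' ∣_ π ⁻¹ᵁ U) ≫ v) (by
    rw [hbig.w, Category.assoc, hv])
  have h4 : IsPullback a (f' ∣_ π ⁻¹ᵁ U) (f ∣_ U) v :=
    IsPullback.of_right (by rw [hs'.lift_fst, hv]; exact hbig) (hs'.lift_snd _ _ _) hs'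
  exact MorphismProperty.of_isPullback (P := MorphismProperty.isomorphisms _) h4 inferInstance

theorem exists_descend_admBlowup {I : Type u} [SmallCategory I] [IsCofiltered I] (D : I ⥤ Scheme.{u})
    (c : Cone D) (hc : IsLimit c) [∀ {i j : I} (t : i ⟶ j), IsAffineHom (D.map t)]
    [∀ i, CompactSpace (D.obj i)] [∀ i, QuasiSeparatedSpace (D.obj i)] (J : ∀ i, (D.obj i).IdealSheafData)
    (hJ : ∀ i, BlowUp.IsEffCartierIdeal (J i))
    (hmin : ∀ (i j : I) (t : i ⟶ j), IsMinimal (J i) (J j) (D.map t)) (IX : c.pt.IdealSheafData)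
    (hIX : ∀ i, IX = (J i).comap (c.π.app i)) {Y : Scheme.{u}} (s : Y ⟶ c.pt)
    (hY : BlowUp.IsEffCartierIdeal (IX.comap s)) (hs : IsAdmBlowup (IX.comap s) IX s) :
    ∃ (i : I) (Yi : Scheme.{u}) (IYi : Yi.IdealSheafData) (si : Yi ⟶ D.obj i),
      BlowUp.IsEffCartierIdeal IYi ∧ IsAdmBlowup IYi (J i) si ∧
      ∃ e : Y ≅ mprod (c.π.app i) si IX IYi,
        e.hom ≫ mprodι (c.π.app i) si IX IYi ≫ pullback.fst (c.π.app i) si = s := by
  obtain ⟨-, hsp, hsi⟩ := hs
  haveI := hsp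
  haveI : CompactSpace c.pt := Scheme.compactSpace_of_isLimit D c hc
  obtain ⟨i₁⟩ := (IsCofiltered.nonempty : Nonempty I)
  haveI : QuasiSeparatedSpace c.pt := by
    haveI := isAffineHom_π_app D c hc i₁
    exact quasiSeparatedSpace_of_quasiSeparated (c.π.app i₁)
  have hint : ∀ i, interior IX = c.π.app i ⁻¹ᵁ interior (J i) := fun i =>
    ModPairFrac.preimage_interior (hIX i)
  have hintj : ∀ {i j : I} (t : i ⟶ j), interior (J i) = D.map t ⁻¹ᵁ interior (J j) := fun t =>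
    ModPairFrac.preimage_interior (hmin _ _ t)
  have hlpJ : ∀ i, HTop.IsLocPrincipal (J i) := fun i x => by
    obtain ⟨U, hU, g, -, he⟩ := hJ i x
    exact ⟨U, hU, g, he⟩
  have hqJ : ∀ i, QuasiCompact (interior (J i)).ι := fun i => AlmostBlow.quasiCompact_awayFrom_ι (hlpJ i)
  have hcU : ∀ i, IsCompact (interior (J i) : Set (D.obj i)) := fun i => by
    haveI := hqJ i
    exact isCompact_iff_compactSpace.mpr (QuasiCompact.compactSpace_of_compactSpace (interior (J i)).ι)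
  let U := interior IX
  haveI : IsIso (s ∣_ U) := hsi
  have hUc : IsCompact (U : Set c.pt) := by
    show IsCompact ((interior IX : c.pt.Opens) : Set c.pt)
    rw [hint i₁]
    haveI := isAffineHom_π_app D c hc i₁
    exact QuasiCompact.isCompact_preimage _ (interior (J i₁)).2 (hcU i₁)
  obtain ⟨P, p, g, hp, hlfp, hg, hgp, hpU⟩ := exists_fp_model s U hUc
  haveI := hp; haveI := hlfp; haveI := hg; haveI := hpU
  -- descend the model
  obtain ⟨j, Pj, pj, qj, h1, h2, h3, hsq⟩ := Groth.Agent.LimModel.exists_model D c hc p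
  haveI := h1; haveI := h2; haveI := h3
  haveI : CompactSpace Pj := QuasiCompact.compactSpace_of_compactSpace pj
  obtain ⟨l₁, hl₁⟩ := Groth.Agent.LimProper.exists_isProper D c hc pj (𝟙 _)
    (Groth.Agent.LimMore.isPullback_id D c) hsq
  have hl₁' : IsProper (LimDesc.toStage D pj l₁) := (LimMore.stageMap_id_iff D pj @IsProper l₁).1 hl₁
  let Uj := interior (J j)
  haveI : QuasiCompact Uj.ι := hqJ j
  haveI : IsIso (p ∣_ c.π.app j ⁻¹ᵁ Uj) := by rw [← hint j]; exact hpU
  have hY' : IsPullback (c.π.app j ∣_ Uj) (c.π.app j ⁻¹ᵁ Uj).ι Uj.ι (c.π.app j) :=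
    isPullback_morphismRestrict (c.π.app j) Uj
  obtain ⟨l₂, hl₂⟩ : ∃ k : Over j, IsIso (LimDesc.stageMap D Uj.ι (pj ∣_ Uj) k) := by
    have hbig := (isPullback_morphismRestrict p (c.π.app j ⁻¹ᵁ Uj)).flip.paste_horiz hsq
    have hs' := (isPullback_morphismRestrict pj Uj).flip
    let v := c.π.app j ∣_ Uj
    have hv : v ≫ Uj.ι = (c.π.app j ⁻¹ᵁ Uj).ι ≫ c.π.app j := morphismRestrict_ι _ _
    let a := hs'.lift ((p ⁻¹ᵁ c.π.app j ⁻¹ᵁ Uj).ι ≫ qj) ((p ∣_ c.π.app j ⁻¹ᵁ Uj) ≫ v) (by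
      rw [hbig.w, Category.assoc, hv])
    have h4 : IsPullback a (p ∣_ c.π.app j ⁻¹ᵁ Uj) (pj ∣_ Uj) v :=
      IsPullback.of_right (by rw [hs'.lift_fst, hv]; exact hbig) (hs'.lift_snd _ _ _) hs'
    haveI : LocallyOfFinitePresentation ((pj ∣_ Uj) ≫ Uj.ι) := by
      rw [morphismRestrict_ι]; infer_instance
    haveI : QuasiCompact ((pj ∣_ Uj) ≫ Uj.ι) := by
      haveI : QuasiCompact (pj ∣_ Uj) := IsZariskiLocalAtTarget.restrict (P := @QuasiCompact) h2 Uj
      infer_instance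
    exact Groth.Agent.LimMore.exists_isIso D c hc hY' h4
  obtain ⟨l, e₁, e₂, -⟩ := IsCofilteredOrEmpty.cone_objs l₁ l₂
  let k := l.left
  let Pk := LimDesc.stage D pj l
  let pk : Pk ⟶ D.obj k := LimDesc.toStage D pj l
  haveI hpk : IsProper pk :=
    MorphismProperty.of_isPullback (LimDesc.isPullback_trans D pj e₁) hl₁'
  haveI hisok : IsIso (pk ∣_ interior (J k)) := by
    haveI := hl₂
    have hk₂ : IsIso (LimDesc.stageMap D Uj.ι (pj ∣_ Uj) l) :=
      MorphismProperty.of_isPullback (P := MorphismProperty.isomorphisms _)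
        (LimDesc.isPullback_trans_stageMap D Uj.ι (pj ∣_ Uj) e₂) hl₂
    rw [hintj l.hom]
    -- both are base changes of `pj ∣_ Uj` along isomorphic opens
    let Ul := D.map l.hom ⁻¹ᵁ Uj
    have hopen := isPullback_morphismRestrict (D.map l.hom) Uj
    let φ : Ul.toScheme ⟶ LimDesc.stage D Uj.ι l :=
      pullback.lift (D.map l.hom ∣_ Uj) Ul.ι hopen.w
    haveI : IsIso φ := by
      have : φ = hopen.isoPullback.hom := by apply pullback.hom_ext <;> simp [φ, Ul]
      rw [this]; infer_instance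
    have hbig := (isPullback_morphismRestrict pk Ul).flip.paste_horiz (LimDesc.isPullback_stage D pj l)
    have hs' := (isPullback_morphismRestrict pj Uj).flip
    let v := D.map l.hom ∣_ Uj
    have hv : v ≫ Uj.ι = Ul.ι ≫ D.map l.hom := morphismRestrict_ι _ _
    let a := hs'.lift ((pk ⁻¹ᵁ Ul).ι ≫ LimDesc.toBase D pj l) ((pk ∣_ Ul) ≫ v) (by
      rw [hbig.w, Category.assoc, hv])
    have h4 : IsPullback a (pk ∣_ Ul) (pj ∣_ Uj) (φ ≫ LimDesc.toBase D Uj.ι l) := by
      rw [show φ ≫ LimDesc.toBase D Uj.ι l = v from pullback.lift_fst _ _ _]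
      exact IsPullback.of_right (by rw [hs'.lift_fst, hv]; exact hbig) (hs'.lift_snd _ _ _) hs'
    have h5 := LimDesc.isPullback_stageMap D Uj.ι (pj ∣_ Uj) l
    have h6 := IsPullback.of_right (h₁₁ := h5.lift a ((pk ∣_ Ul) ≫ φ) (by rw [h4.w, Category.assoc]))
      (by rw [h5.lift_fst]; exact h4) (h5.lift_snd _ _ _) h5
    exact MorphismProperty.of_isPullback (P := MorphismProperty.isomorphisms _) h6 hk₂
  have hsqk : IsPullback (LimDesc.proj D pj c hsq l) p pk (c.π.app k) :=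
    LimDesc.isPullback_proj D pj c hsq l
  let q : P ⟶ Pk := LimDesc.proj D pj c hsq l
  -- the strict transform
  let 𝓘 := (J k).comap pk
  have hlp : HTop.IsLocPrincipal 𝓘 := AlmostBlow.isLocPrincipal_comap (hlpJ k) pk
  let Yk := (HTop.supportedOn 𝓘).subscheme
  let ι : Yk ⟶ Pk := (HTop.supportedOn 𝓘).subschemeι
  let sk : Yk ⟶ D.obj k := ι ≫ pk
  let IYk := (J k).comap sk
  have hcart : BlowUp.IsEffCartierIdeal IYk := by
    show BlowUp.IsEffCartierIdeal ((J k).comap (ι ≫ pk))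
    rw [Scheme.IdealSheafData.comap_comp]
    exact AlmostBlow.cartier_comap_subschemeι hlp
  have hmk : IsMinimal IYk (J k) sk := rfl
  have hadm : IsAdmBlowup IYk (J k) sk := by
    refine ⟨hmk, inferInstanceAs (IsProper (ι ≫ pk)), ?_⟩
    show IsIso ((ι ≫ pk) ∣_ interior (J k))
    rw [morphismRestrict_comp]
    haveI : IsIso (ι ∣_ pk ⁻¹ᵁ interior (J k)) := by
      have e : pk ⁻¹ᵁ interior (J k) = HTop.awayFrom 𝓘 := (AlmostBlow.awayFrom_comap pk).symm
      rw [e]
      exact ModPairFrac.isIso_restrict ι _ (IsClosedImmersion.lift ι (HTop.awayFrom 𝓘).ι (by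
        rw [Scheme.IdealSheafData.ker_subschemeι]; exact le_rfl)) (IsClosedImmersion.lift_fac _ _ _)
    infer_instance
  have hpq : p ≫ c.π.app k = q ≫ pk := hsqk.w.symm
  have hgJ : (J k).comap ((g ≫ q) ≫ pk) = IX.comap s := by
    rw [Category.assoc, ← hpq, reassoc_of% hgp, Scheme.IdealSheafData.comap_comp _ s, ← hIX k]
  obtain ⟨m, hm⟩ := AlmostBlow.exists_lift (𝓘 := 𝓘) (g ≫ q) (by
    show BlowUp.IsEffCartierIdeal (((J k).comap pk).comap (g ≫ q))
    rw [← Scheme.IdealSheafData.comap_comp, hgJ]; exact hY)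
  have hm' : m ≫ ι = g ≫ q := hm
  let Q := pullback (c.π.app k) sk
  let ψ : Y ⟶ Q := pullback.lift s m (by
    show s ≫ c.π.app k = m ≫ ι ≫ pk
    rw [reassoc_of% hm', ← hpq, reassoc_of% hgp])
  let g₂ : Q ⟶ P := hsqk.lift (pullback.snd _ _ ≫ ι) (pullback.fst _ _)
    (by rw [Category.assoc]; exact pullback.condition.symm)
  have hg₂p : g₂ ≫ p = pullback.fst _ _ := hsqk.lift_snd _ _ _
  have hψg : ψ ≫ g₂ = g := by
    apply hsqk.hom_ext
    · rw [Category.assoc, hsqk.lift_fst]; simp [ψ, hm', q]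
    · rw [Category.assoc, hg₂p]; simp [ψ, hgp]
  haveI : IsProper sk := hadm.2.1
  haveI : IsClosedImmersion ψ := by
    haveI : IsProper (pullback.fst (c.π.app k) sk) := MorphismProperty.pullback_fst _ _ inferInstance
    haveI : IsSeparated (g₂ ≫ p) := by rw [hg₂p]; infer_instance
    haveI : IsSeparated g₂ := IsSeparated.of_comp g₂ p
    haveI : IsClosedImmersion (ψ ≫ g₂) := by rw [hψg]; infer_instance
    exact IsClosedImmersion.of_comp ψ g₂
  let V := prodInterior (c.π.app k) sk IX IYk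
  have hVfst : ∀ x : V.toScheme, pullback.fst (c.π.app k) sk (V.ι x) ∈ U := fun x => x.2.1
  -- the open is contained in `ψ`
  let σ : U.toScheme ⟶ Y := inv (s ∣_ U) ≫ (s ⁻¹ᵁ U).ι
  have hσ : σ ≫ s = U.ι := by
    simp only [σ, Category.assoc, ← morphismRestrict_ι, IsIso.inv_hom_id_assoc]
  let vU : V.toScheme ⟶ U.toScheme := IsOpenImmersion.lift U.ι (V.ι ≫ pullback.fst _ _) (by
    rw [Scheme.Opens.range_ι]; rintro _ ⟨x, rfl⟩; exact hVfst x)
  have hvU : vU ≫ U.ι = V.ι ≫ pullback.fst _ _ := IsOpenImmersion.lift_fac _ _ _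
  let τ := vU ≫ σ
  have hτ : τ ≫ ψ = V.ι := by
    apply pullback.hom_ext
    · simp only [Category.assoc, ψ, pullback.lift_fst, τ, hσ, hvU]
    · haveI := hadm.2.2
      haveI := mono_ι_comp sk (interior (J k)) (interior IYk) (ModPairFrac.preimage_interior hmk)
      have hr : ∀ (r : V.toScheme ⟶ Yk), r ≫ sk = V.ι ≫ pullback.fst _ _ ≫ c.π.app k →
          Set.range r ⊆ Set.range (interior IYk).ι := fun r hr => by
        rw [Scheme.Opens.range_ι, ModPairFrac.preimage_interior hmk]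
        rintro _ ⟨x, rfl⟩
        show sk (r x) ∈ interior (J k)
        rw [← Scheme.Hom.comp_apply, hr, ← SetLike.mem_coe]
        have := hVfst x
        change _ ∈ interior IX at this
        rw [hint k] at this
        exact this
      have ha : ((τ ≫ ψ) ≫ pullback.snd _ _) ≫ sk = V.ι ≫ pullback.fst _ _ ≫ c.π.app k := by
        simp only [Category.assoc, ← pullback.condition, ψ, pullback.lift_fst_assoc, τ,
          reassoc_of% hσ, reassoc_of% hvU]
      have hb : (V.ι ≫ pullback.snd _ _) ≫ sk = V.ι ≫ pullback.fst _ _ ≫ c.π.app k := by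
        simp only [Category.assoc, pullback.condition]
      rw [← IsOpenImmersion.lift_fac (interior IYk).ι _ (hr _ ha),
        ← IsOpenImmersion.lift_fac (interior IYk).ι _ (hr _ hb)]
      refine congrArg (· ≫ _) ((cancel_mono ((interior IYk).ι ≫ sk)).1 ?_)
      rw [IsOpenImmersion.lift_fac_assoc, IsOpenImmersion.lift_fac_assoc, ha, hb]
  have hker : V.ι.ker = ψ.ker := by
    refine le_antisymm ?_ (hτ ▸ τ.le_ker_comp ψ)
    have hr : Set.range ((s ⁻¹ᵁ U).ι ≫ ψ) ⊆ Set.range V.ι := by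
      rw [Scheme.Opens.range_ι]
      rintro _ ⟨x, rfl⟩
      have h1 : pullback.fst (c.π.app k) sk (((s ⁻¹ᵁ U).ι ≫ ψ) x) ∈ U := by
        rw [← Scheme.Hom.comp_apply, Category.assoc, pullback.lift_fst, Scheme.Hom.comp_apply]
        exact x.2
      refine ⟨h1, ?_⟩
      show pullback.snd (c.π.app k) sk _ ∈ interior IYk
      rw [ModPairFrac.preimage_interior hmk]
      show sk (pullback.snd (c.π.app k) sk _) ∈ interior (J k)
      rw [← Scheme.Hom.comp_apply, ← pullback.condition, Scheme.Hom.comp_apply]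
      have h1' := h1
      change _ ∈ interior IX at h1'
      rw [hint k] at h1'
      exact h1'
    have hd : (s ⁻¹ᵁ U).ι.ker = ⊥ := by
      have e : s ⁻¹ᵁ U = HTop.awayFrom (IX.comap s) := (AlmostBlow.awayFrom_comap s).symm
      rw [e]
      exact AlmostBlow.supportedOn_eq_bot hY
    calc V.ι.ker ≤ (IsOpenImmersion.lift V.ι _ hr ≫ V.ι).ker := Scheme.Hom.le_ker_comp _ _
      _ = ((s ⁻¹ᵁ U).ι ≫ ψ).ker := by rw [IsOpenImmersion.lift_fac]
      _ = ψ.ker := by rw [← Scheme.IdealSheafData.map_ker, hd, Scheme.IdealSheafData.map_bot]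
  refine ⟨k, Yk, IYk, sk, hcart, hadm, ?_⟩
  let Mι := mprodι (c.π.app k) sk IX IYk
  have hMker : Mι.ker = ψ.ker := by
    rw [show Mι = V.ι.imageι from rfl, Scheme.IdealSheafData.ker_subschemeι, hker]
  let a := IsClosedImmersion.lift Mι ψ hMker.le
  let b := IsClosedImmersion.lift ψ Mι hMker.ge
  refine ⟨⟨a, b, ?_, ?_⟩, ?_⟩
  · rw [← cancel_mono ψ, Category.assoc, IsClosedImmersion.lift_fac, IsClosedImmersion.lift_fac,
      Category.id_comp]
  · rw [← cancel_mono Mι, Category.assoc, IsClosedImmersion.lift_fac, IsClosedImmersion.lift_fac,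
      Category.id_comp]
  · show a ≫ Mι ≫ _ = s
    rw [IsClosedImmersion.lift_fac_assoc, pullback.lift_fst]

end Groth.Agent.ModPairLim
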