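import Groth.Agent.RZExt.Stages
import Groth.Agent.BlowUpLib.Cartier
import Groth.Prelude.Def_W4c6modpairsegaMP
import Mathlib

/-!
# Coverings of the interior of a modulus pair extend after an admissible blow-up
-/

set_option autoImplicit false
set_option backward.isDefEq.respectTransparency false
set_option backward.isDefEq.respectTransparency.types false
set_option linter.style.haveILetI false

universe u

open CategoryTheory Limits AlgebraicGeometry TopologicalSpace

namespace Groth.Agent.ModPairLim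

theorem isCompact_interior {S : Scheme.{u}} [CompactSpace S] {I : S.IdealSheafData}
    (hI : BlowUp.IsEffCartierIdeal I) : IsCompact (ModPair.interior I : Set S) := by
  choose W hxW f hf he using hI
  obtain ⟨t, ht⟩ := (CompactSpace.isCompact_univ (X := S)).elim_finite_subcover (fun x => ((W x).1 : Set S))
    (fun x => (W x).1.2) (fun x _ => Set.mem_iUnion.2 ⟨x, hxW x⟩)
  have e : (ModPair.interior I : Set S) = ⋃ x ∈ t, (S.basicOpen (f x) : Set S) := by
    ext y
    simp only [Set.mem_iUnion, SetLike.mem_coe]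
    constructor
    · intro hy
      obtain ⟨x, hx, hyx⟩ := Set.mem_iUnion₂.1 (ht (Set.mem_univ y))
      exact ⟨x, hx, (BlowUpLib.mem_basicOpen_of_notMem_support (he x) hyx).1 hy⟩
    · rintro ⟨x, -, hyx⟩
      exact (BlowUpLib.mem_basicOpen_of_notMem_support (he x) (S.basicOpen_le _ hyx)).2 hyx
  rw [e]
  exact t.isCompact_biUnion fun x _ => ((W x).2.basicOpen (f x)).isCompact

theorem comap_finsetSup {X Y : Scheme.{u}} (b : Y ⟶ X) {κ : Type u} (s : Finset κ) (J : κ → X.IdealSheafData) :
    (s.sup J).comap b = s.sup fun i => (J i).comap b := by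
  classical
  induction s using Finset.induction with
  | empty => simp
  | insert a s ha ih => simp [Scheme.IdealSheafData.comap_sup, ih]

theorem ideal_finsetSup {X : Scheme.{u}} {κ : Type u} (s : Finset κ) (J : κ → X.IdealSheafData) (G : X.affineOpens) :
    (s.sup J).ideal G = ⨆ i ∈ s, (J i).ideal G := by
  classical
  induction s using Finset.induction with
  | empty => simp
  | insert a s ha ih =>
    rw [Finset.sup_insert, Scheme.IdealSheafData.ideal_sup, Pi.sup_apply, ih, Finset.iSup_insert]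

theorem exists_blowUp_cover {S : Scheme.{u}} [CompactSpace S] [QuasiSeparatedSpace S] (I : S.IdealSheafData)
    (hI : BlowUp.IsEffCartierIdeal I) {ι : Type u} (V : ι → S.Opens) (hVqc : ∀ i, IsCompact (V i : Set S))
    (hcov : ModPair.interior I ≤ ⨆ i, V i) :
    ∃ (F : S.IdealSheafData) (Y : Scheme.{u}) (b : Y ⟶ S) (κ : Type u) (W : κ → Y.Opens),
      BlowUp.IsAdmissibleFor (ModPair.interior I) F ∧ BlowUp.IsBlowUp b F ∧
        BlowUp.IsEffCartierIdeal (I.comap b) ∧ (∀ k, IsCompact (W k : Set Y)) ∧ (⨆ k, W k) = ⊤ ∧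
          ∀ k, ∃ i, W k ⊓ b ⁻¹ᵁ ModPair.interior I ≤ b ⁻¹ᵁ V i := by
  classical
  obtain ⟨s, hs⟩ := (isCompact_interior hI).elim_finite_subcover (fun i => (V i : Set S)) (fun i => (V i).2)
    (fun x hx => by rw [← Opens.coe_iSup]; exact hcov hx)
  have hC : ∀ i, Nonempty (RZExt.Centre (V i)) := fun i => RZExt.nonempty_centre (V i) (hVqc i)
  let C := fun i => (hC i).some
  let F : S.IdealSheafData := s.sup fun i => (C i).ideal
  have hFft : BlowUp.IsFiniteTypeIdeal F := fun G => by
    show ((s.sup fun i => (C i).ideal).ideal G).FG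
    rw [ideal_finsetSup]
    exact Submodule.fg_biSup s _ fun i _ => (C i).ft G
  have hsupp : ∀ x ∈ F.support, ∀ i ∈ s, x ∉ V i := fun x hx i hi hxV => by
    have h1 := Scheme.IdealSheafData.support_antitone (Finset.le_sup (f := fun i => (C i).ideal) hi) hx
    rw [← SetLike.mem_coe, (C i).supp] at h1
    exact h1 hxV
  have hdisj : Disjoint (F.support : Set S) (ModPair.interior I : Set S) :=
    Set.disjoint_left.2 fun x hx hxU => by
      obtain ⟨i, hi, hxi⟩ := Set.mem_iUnion₂.1 (hs hxU)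
      exact hsupp x hx i hi hxi
  obtain ⟨Y, b, hb⟩ := BlowUpExist.exists_isBlowUp S F
  have key : ∀ y : Y, ∃ W : Y.Opens, IsCompact (W : Set Y) ∧ y ∈ W ∧
      ∃ i, W ⊓ b ⁻¹ᵁ ModPair.interior I ≤ b ⁻¹ᵁ V i := by
    intro y
    obtain ⟨G, hyG, f, hf, he⟩ := hb.1 y
    have hmem : f ∈ ⨆ i ∈ s, ((C i).ideal.comap b).ideal G := by
      rw [← ideal_finsetSup, ← comap_finsetSup]
      exact he.symm ▸ Ideal.mem_span_singleton_self f
    obtain ⟨a, ha⟩ := (Submodule.mem_iSup_finset_iff_exists_sum _ f).1 hmem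
    have hle : ∀ i ∈ s, ∃ c, (a i : Γ(Y, G.1)) = c * f := fun i hi => by
      have h1 : ((C i).ideal.comap b) ≤ F.comap b :=
        Scheme.IdealSheafData.comap_mono b (Finset.le_sup (f := fun i => (C i).ideal) hi)
      obtain ⟨c, hc⟩ := Ideal.mem_span_singleton'.1 (he ▸ h1 G (a i).2 : (a i : Γ(Y, G.1)) ∈ Ideal.span {f})
      exact ⟨c, hc.symm⟩
    choose c hc using hle
    have hsum : ∑ i ∈ s.attach, c i.1 i.2 = 1 := by
      refine sub_eq_zero.1 ((mem_nonZeroDivisors_iff_right.1 hf) _ ?_)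
      rw [sub_mul, one_mul, Finset.sum_mul, sub_eq_zero]
      refine Eq.trans ?_ ha
      rw [← Finset.sum_attach s]
      exact Finset.sum_congr rfl fun i _ => (hc i.1 i.2).symm
    obtain ⟨i, -, hiy⟩ : ∃ i ∈ s.attach, y ∈ Y.basicOpen (c i.1 i.2) := by
      by_contra hn
      push Not at hn
      have h1 : (Y.presheaf.germ G.1 y hyG).hom (∑ i ∈ s.attach, c i.1 i.2) ∈
          IsLocalRing.maximalIdeal (Y.presheaf.stalk y) := by
        rw [map_sum]
        refine Ideal.sum_mem _ fun i hi => ?_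
        rw [IsLocalRing.mem_maximalIdeal, mem_nonunits_iff, ← Y.mem_basicOpen _ _ hyG]
        exact hn i hi
      rw [hsum, map_one] at h1
      exact (IsLocalRing.maximalIdeal.isMaximal _).ne_top ((Ideal.eq_top_iff_one _).2 h1)
    refine ⟨Y.basicOpen (c i.1 i.2), (G.2.basicOpen _).isCompact, hiy, i.1, fun x ⟨hx, hxU⟩ => ?_⟩
    have hxG : x ∈ G.1 := Y.basicOpen_le _ hx
    have hxf : x ∈ Y.basicOpen f := (BlowUpLib.mem_basicOpen_of_notMem_support he hxG).1 fun h => by
      rw [← SetLike.mem_coe, Scheme.IdealSheafData.support_comap, Closeds.coe_preimage] at h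
      exact Set.disjoint_left.1 hdisj h hxU
    have hxa : x ∈ Y.basicOpen (a i.1 : Γ(Y, G.1)) := by
      rw [hc i.1 i.2, Y.basicOpen_mul]
      exact ⟨hx, hxf⟩
    show b x ∈ V i.1
    by_contra hxV
    have h1 : x ∈ ((C i.1).ideal.comap b).support := by
      rw [← SetLike.mem_coe, Scheme.IdealSheafData.support_comap, Closeds.coe_preimage, (C i.1).supp]
      exact hxV
    rw [Scheme.IdealSheafData.mem_support_iff_of_mem hxG, Scheme.mem_zeroLocus_iff] at h1
    exact h1 _ (a i.1).2 hxa
  choose W hW hyW hi using key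
  exact ⟨F, Y, b, Y, W, ⟨hFft, hdisj⟩, hb, BlowUpLib.cartier_comap_blowUp hb hI, hW,
    top_le_iff.1 fun y _ => Opens.mem_iSup.2 ⟨y, hyW y⟩, hi⟩

end Groth.Agent.ModPairLim
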