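import Groth.Agent.AbsApprox.ProperLim
import Groth.Agent.ModPairFrac.Basic
import Groth.Agent.ModPairLim.InteriorCover
import Groth.Agent.LimDesc.FPCancel
import Groth.Prelude.Def_W4c6modpairsegaMP
import Groth.Prelude.Def_CurvBase
import Mathlib

/-!
# Moduli on finitely presented approximations of closed subschemes
-/

set_option autoImplicit false
set_option backward.isDefEq.respectTransparency false
set_option backward.isDefEq.respectTransparency.types false
set_option linter.style.haveILetI false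

universe u

open CategoryTheory Limits AlgebraicGeometry TopologicalSpace Opposite

namespace Groth.Agent.ModPairLim

variable {X X' : Scheme.{u}}

/-- Locally finitely generated ideal sheaves are compact. -/
theorem exists_le_of_directed [CompactSpace X] {ι : Type u} [Nonempty ι] (N : ι → X.IdealSheafData)
    (hN : Directed (· ≤ ·) N) (L : X.IdealSheafData) (hL : ∀ x : X, ∃ V : X.affineOpens, x ∈ V.1 ∧ (L.ideal V).FG)
    (h : L ≤ ⨆ i, N i) : ∃ i, L ≤ N i := by
  classical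
  choose V hxV hfg using hL
  obtain ⟨t, ht⟩ := (CompactSpace.isCompact_univ (X := X)).elim_finite_subcover (fun x => ((V x).1 : Set X))
    (fun x => (V x).1.2) (fun x _ => Set.mem_iUnion.2 ⟨x, hxV x⟩)
  have key : ∀ x, ∃ i, L.ideal (V x) ≤ (N i).ideal (V x) := fun x => by
    obtain ⟨S, hS⟩ := hfg x
    have hmem : ∀ a ∈ S, ∃ i, a ∈ (N i).ideal (V x) := fun a ha => by
      have h1 := h (V x) (hS.le (Submodule.subset_span ha))
      rw [Scheme.IdealSheafData.ideal_iSup, iSup_apply] at h1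
      exact (Submodule.mem_iSup_of_directed (fun i => (N i).ideal (V x))
        (fun a b => by obtain ⟨c, hac, hbc⟩ := hN a b; exact ⟨c, hac (V x), hbc (V x)⟩)).1 h1
    choose i hi using hmem
    obtain ⟨k, hk⟩ := Finite.exists_le' (fun a : S => i a.1 a.2) hN
    exact ⟨k, hS ▸ Submodule.span_le.2 fun a ha => hk ⟨a, ha⟩ (V x) (hi a ha)⟩
  choose i hi using key
  obtain ⟨k, hk⟩ := Finite.exists_le' (fun x : t => i x.1) hN
  refine ⟨k, Scheme.IdealSheafData.le_of_iSup_eq_top (fun x : t => V x.1) (top_le_iff.1 fun y _ => ?_)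
    fun x => (hi x.1).trans (hk x (V x.1))⟩
  obtain ⟨x, hx, hyx⟩ := Set.mem_iUnion₂.1 (ht (Set.mem_univ y))
  exact Opens.mem_iSup.2 ⟨⟨x, hx⟩, hyx⟩
where
  Finite.exists_le' {ι : Type u} [Nonempty ι] {N : ι → X.IdealSheafData} {κ : Type u} [Finite κ] (i : κ → ι)
      (hN : Directed (· ≤ ·) N) : ∃ k, ∀ a, N (i a) ≤ N k := hN.finite_le i

theorem exists_le_sup_ftBelow [CompactSpace X] [QuasiSeparatedSpace X] (K : X.IdealSheafData) (M L : X.IdealSheafData)
    (hL : ∀ x : X, ∃ V : X.affineOpens, x ∈ V.1 ∧ (L.ideal V).FG) (h : L ≤ M ⊔ K) :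
    ∃ N : LimClosed.FTBelow K, L ≤ M ⊔ N.1 :=
  exists_le_of_directed (fun N : LimClosed.FTBelow K => M ⊔ N.1)
    (fun a b => by
      obtain ⟨c, hac, hbc⟩ := exists_ge_ge a b
      exact ⟨c, sup_le_sup_left hac _, sup_le_sup_left hbc _⟩) L hL
    (h.trans (by rw [← sup_iSup, LimClosed.iSup_ftBelow]))

theorem exists_mem_sup_ftBelow [CompactSpace X] [QuasiSeparatedSpace X] (K : X.IdealSheafData) (W : X.affineOpens)
    (J : Ideal Γ(X, W.1)) {a : Γ(X, W.1)} (ha : a ∈ J ⊔ K.ideal W) :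
    ∃ N : LimClosed.FTBelow K, a ∈ J ⊔ N.1.ideal W := by
  obtain ⟨b, hb, c, hc, rfl⟩ := Submodule.mem_sup.1 ha
  obtain ⟨N, hN, hfg, hcN⟩ := LimClosed.exists_ft_le K W c hc
  exact ⟨⟨N, hN, hfg⟩, Submodule.add_mem_sup hb hcN⟩

section closed

variable (j : X ⟶ X') [IsClosedImmersion j]

theorem ideal_comap_preimage (L : X'.IdealSheafData) (W : X'.affineOpens) :
    (L.comap j).ideal ⟨j ⁻¹ᵁ W.1, W.2.preimage j⟩ = (L.ideal W).map (j.app W.1).hom := by
  rw [FpqcDescent.ideal_comap_appLE L j W ⟨j ⁻¹ᵁ W.1, W.2.preimage j⟩ le_rfl, Scheme.Hom.app_eq_appLE]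

theorem comap_map_eq (I : X.IdealSheafData) : (I.map j).comap j = I := by
  refine Scheme.IdealSheafData.ext_of_iSup_eq_top (fun W : X'.affineOpens => ⟨j ⁻¹ᵁ W.1, W.2.preimage j⟩)
    (top_le_iff.1 fun x _ => ?_) fun W => ?_
  · obtain ⟨W, hW, hxW, -⟩ := exists_isAffineOpen_mem_and_subset (x := j x) (U := (⊤ : X'.Opens)) trivial
    exact Opens.mem_iSup.2 ⟨⟨W, hW⟩, hxW⟩
  · rw [ideal_comap_preimage, Scheme.IdealSheafData.ideal_map_of_isAffineHom,
      Ideal.map_comap_of_surjective _ (j.app_surjective W.1 W.2)]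

theorem comap_comap_preimage (L : X'.IdealSheafData) (W : X'.affineOpens) :
    ((L.comap j).ideal ⟨j ⁻¹ᵁ W.1, W.2.preimage j⟩).comap (j.app W.1).hom = L.ideal W ⊔ j.ker.ideal W := by
  rw [ideal_comap_preimage, Ideal.comap_map_of_surjective' _ (j.app_surjective W.1 W.2), Scheme.Hom.ker_apply]

theorem le_sup_ker_of_comap_le {L M : X'.IdealSheafData} (h : L.comap j ≤ M.comap j) : L ≤ M ⊔ j.ker := by
  intro W
  rw [Scheme.IdealSheafData.ideal_sup, Pi.sup_apply, ← comap_comap_preimage]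
  refine le_trans ?_ (Ideal.comap_mono (h ⟨j ⁻¹ᵁ W.1, W.2.preimage j⟩))
  rw [comap_comap_preimage]
  exact le_sup_left

theorem exists_ft_lift [CompactSpace X'] [QuasiSeparatedSpace X'] (I : X.IdealSheafData)
    (hI : ∀ x : X, ∃ V : X.affineOpens, x ∈ V.1 ∧ (I.ideal V).FG) :
    ∃ L : X'.IdealSheafData, (∀ V, (L.ideal V).FG) ∧ L.comap j = I := by
  haveI : CompactSpace X := QuasiCompact.compactSpace_of_compactSpace j
  obtain ⟨N, hN⟩ := exists_le_of_directed (fun N : LimClosed.FTBelow (I.map j) => N.1.comap j)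
    (fun a b => by
      obtain ⟨c, hac, hbc⟩ := exists_ge_ge a b
      exact ⟨c, Scheme.IdealSheafData.comap_mono j hac, Scheme.IdealSheafData.comap_mono j hbc⟩) I hI (by
      rw [← (Scheme.IdealSheafData.map_gc j).l_iSup, LimClosed.iSup_ftBelow, comap_map_eq])
  exact ⟨N.1, N.2.2, le_antisymm ((Scheme.IdealSheafData.comap_mono j N.2.1).trans (comap_map_eq j I).le) hN⟩

end closed

theorem comap_subschemeι_self (N : X.IdealSheafData) : N.comap N.subschemeι = ⊥ :=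
  le_bot_iff.1 (Scheme.IdealSheafData.le_map_iff_comap_le.1
    (by rw [Scheme.IdealSheafData.map_bot, Scheme.IdealSheafData.ker_subschemeι]))

theorem comap_le_of_le_sup {L M N : X.IdealSheafData} (h : L ≤ M ⊔ N) :
    L.comap N.subschemeι ≤ M.comap N.subschemeι := by
  refine (Scheme.IdealSheafData.comap_mono _ h).trans ?_
  show (M ⊔ N).comap N.subschemeι ≤ _
  rw [Scheme.IdealSheafData.comap_sup, comap_subschemeι_self, sup_bot_eq]

theorem fg_comap {Y : Scheme.{u}} (f : X ⟶ Y) (I : Y.IdealSheafData)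
    (hI : ∀ y : Y, ∃ V : Y.affineOpens, y ∈ V.1 ∧ (I.ideal V).FG) (x : X) :
    ∃ W : X.affineOpens, x ∈ W.1 ∧ ((I.comap f).ideal W).FG := by
  obtain ⟨V, hV, hfg⟩ := hI (f x)
  obtain ⟨W, hW, hxW, hWV⟩ := exists_isAffineOpen_mem_and_subset (x := x) (U := f ⁻¹ᵁ V.1) hV
  refine ⟨⟨W, hW⟩, hxW, ?_⟩
  rw [FpqcDescent.ideal_comap_appLE I f V ⟨W, hW⟩ hWV]
  exact hfg.map _

theorem fg_of_cartier {I : X.IdealSheafData} (hI : BlowUp.IsEffCartierIdeal I) (x : X) :
    ∃ V : X.affineOpens, x ∈ V.1 ∧ (I.ideal V).FG := by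
  obtain ⟨U, hxU, f, -, he⟩ := hI x
  exact ⟨U, hxU, he ▸ Submodule.fg_span (Set.finite_singleton f)⟩

/-- The pull-back of a locally principal lift is locally principal on all small enough closed subschemes. -/
theorem exists_locPrincipal [CompactSpace X'] [QuasiSeparatedSpace X'] (j : X ⟶ X') [IsClosedImmersion j]
    (L : X'.IdealSheafData) (hL : ∀ V, (L.ideal V).FG) (hI : BlowUp.IsEffCartierIdeal (L.comap j)) :
    ∃ N₀ : LimClosed.FTBelow j.ker, ∀ N : LimClosed.FTBelow j.ker, N₀ ≤ N →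
      Curv2.IsLocPrincipal (L.comap N.1.subschemeι) := by
  classical
  have hch : ∀ y : X', ∃ (W : X'.affineOpens) (g : Γ(X', W.1)), y ∈ W.1 ∧
      L.ideal W ⊔ j.ker.ideal W = Ideal.span {g} ⊔ j.ker.ideal W := by
    intro y
    have : ∃ (W : X'.affineOpens) (g' : Γ(X, j ⁻¹ᵁ W.1)), y ∈ W.1 ∧
        (L.comap j).ideal ⟨j ⁻¹ᵁ W.1, W.2.preimage j⟩ = Ideal.span {g'} := by
      by_cases hy : y ∈ Set.range j
      · obtain ⟨x, rfl⟩ := hy
        obtain ⟨U, hxU, f, -, he⟩ := hI x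
        obtain ⟨O, hO, hOU⟩ := j.isClosedEmbedding.isInducing.isOpen_iff.1 U.1.2
        obtain ⟨W, hW, hxW, hWO⟩ := exists_isAffineOpen_mem_and_subset (x := j x) (U := (⟨O, hO⟩ : X'.Opens))
          (hOU.ge hxU)
        have hle : j ⁻¹ᵁ W ≤ U.1 := fun z hz => hOU.le (hWO hz)
        refine ⟨⟨W, hW⟩, (X.presheaf.map (homOfLE hle).op).hom f, hxW, ?_⟩
        rw [← (L.comap j).map_ideal (U := ⟨j ⁻¹ᵁ W, hW.preimage j⟩) (V := U) hle, he, Ideal.map_span, Set.image_singleton]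
        rfl
      · obtain ⟨W, hW, hyW, hWO⟩ := exists_isAffineOpen_mem_and_subset (x := y)
          (U := (⟨(Set.range j)ᶜ, j.isClosedEmbedding.isClosed_range.isOpen_compl⟩ : X'.Opens)) hy
        have he : j ⁻¹ᵁ W = ⊥ := bot_unique fun z hz => hWO hz ⟨z, rfl⟩
        haveI : Subsingleton Γ(X, j ⁻¹ᵁ W) := by
          rw [he]
          exact CommRingCat.subsingleton_of_isTerminal X.sheaf.isTerminalOfEmpty
        exact ⟨⟨W, hW⟩, 0, hyW, Subsingleton.elim _ _⟩
    obtain ⟨W, g', hyW, he⟩ := this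
    obtain ⟨g, rfl⟩ := j.app_surjective W.1 W.2 g'
    refine ⟨W, g, hyW, ?_⟩
    rw [← comap_comap_preimage, he, ← Set.image_singleton, ← Ideal.map_span,
      Ideal.comap_map_of_surjective' _ (j.app_surjective W.1 W.2), Scheme.Hom.ker_apply]
  choose W g hyW hWg using hch
  obtain ⟨t, ht⟩ := (CompactSpace.isCompact_univ (X := X')).elim_finite_subcover (fun y => ((W y).1 : Set X'))
    (fun y => (W y).1.2) (fun y _ => Set.mem_iUnion.2 ⟨y, hyW y⟩)
  have key : ∀ y : X', ∃ N₀ : LimClosed.FTBelow j.ker, L.ideal (W y) ≤ Ideal.span {g y} ⊔ N₀.1.ideal (W y) ∧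
      g y ∈ L.ideal (W y) ⊔ N₀.1.ideal (W y) := by
    intro y
    obtain ⟨S, hS⟩ := hL (W y)
    have hmem : ∀ a ∈ S, ∃ N : LimClosed.FTBelow j.ker, a ∈ Ideal.span {g y} ⊔ N.1.ideal (W y) := fun a ha =>
      exists_mem_sup_ftBelow _ _ _ (hWg y ▸ Submodule.mem_sup_left (hS ▸ Submodule.subset_span ha))
    choose Na hNa using hmem
    obtain ⟨Ng, hNg⟩ := exists_mem_sup_ftBelow j.ker (W y) (L.ideal (W y)) (a := g y)
      (hWg y ▸ Submodule.mem_sup_left (Ideal.mem_span_singleton_self _))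
    obtain ⟨N₁, hN₁⟩ := Finite.exists_le (fun a : S => Na a.1 a.2)
    obtain ⟨N₀, h₁, h₀⟩ := exists_ge_ge N₁ Ng
    refine ⟨N₀, hS ▸ Submodule.span_le.2 fun a ha => ?_, sup_le_sup_left (h₀ (W y)) _ hNg⟩
    exact sup_le_sup_left (((hN₁ ⟨a, ha⟩).trans h₁) (W y)) _ (hNa a ha)
  choose N₁ hle hmem using key
  obtain ⟨N₀, hN₀⟩ := Finite.exists_le (fun y : t => N₁ y.1)
  refine ⟨N₀, fun N hN x _ => ?_⟩
  obtain ⟨y, hy, hxy⟩ := Set.mem_iUnion₂.1 (ht (Set.mem_univ (N.1.subschemeι x)))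
  let ψ := (N.1.subschemeι.app (W y).1).hom
  refine ⟨⟨N.1.subschemeι ⁻¹ᵁ (W y).1, (W y).2.preimage _⟩, hxy, ψ (g y), ?_⟩
  have hker : (N.1.ideal (W y)).map ψ = ⊥ := by
    rw [← ideal_comap_preimage N.1.subschemeι, comap_subschemeι_self, Scheme.IdealSheafData.ideal_bot]
    rfl
  have hN' : N₁ y ≤ N := (hN₀ ⟨y, hy⟩).trans hN
  rw [ideal_comap_preimage, ← Set.image_singleton, ← Ideal.map_span]
  apply le_antisymm
  · refine (Ideal.map_mono ((hle y).trans (sup_le_sup_left (hN' (W y)) _))).trans ?_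
    rw [Ideal.map_sup, hker, sup_bot_eq]
  · have h1 : Ideal.span {g y} ≤ L.ideal (W y) ⊔ N.1.ideal (W y) :=
      (Ideal.span_singleton_le_iff_mem _).2 (sup_le_sup_left (hN' (W y)) _ (hmem y))
    refine (Ideal.map_mono h1).trans ?_
    rw [Ideal.map_sup, hker, sup_bot_eq]

/-- An isomorphism over a quasi-compact open stays one on all small enough closed subschemes. -/
theorem exists_isIso_restrict {Y : Scheme.{u}} [CompactSpace X'] [QuasiSeparatedSpace X'] (f : X ⟶ Y) (f' : X' ⟶ Y)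
    (j : X ⟶ X') [IsClosedImmersion j] (w : j ≫ f' = f) [QuasiCompact f'] [LocallyOfFiniteType f'] (U : Y.Opens)
    (hU : IsCompact (U : Set Y)) [IsIso (f ∣_ U)] :
    ∃ N₀ : LimClosed.FTBelow j.ker, ∀ N : LimClosed.FTBelow j.ker, N₀ ≤ N →
      IsIso ((N.1.subschemeι ≫ f') ∣_ U) := by
  let V := f' ⁻¹ᵁ U
  haveI : CompactSpace V.toScheme := isCompact_iff_compactSpace.1 (f'.isCompact_preimage hU)
  haveI : LocallyOfFinitePresentation (j ∣_ V) := by
    haveI : LocallyOfFinitePresentation ((j ∣_ V) ≫ (f' ∣_ U)) := by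
      subst w
      rw [← morphismRestrict_comp]
      infer_instance
    exact LimDesc.lfp_of_comp (j ∣_ V) (f' ∣_ U)
  have hfg : ∀ x : V.toScheme, ∃ W : V.toScheme.affineOpens, x ∈ W.1 ∧ ((j.ker.comap V.ι).ideal W).FG := fun x => by
    obtain ⟨W, hW, hxW, -⟩ := exists_isAffineOpen_mem_and_subset (x := x) (U := (⊤ : V.toScheme.Opens)) trivial
    refine ⟨⟨W, hW⟩, hxW, ?_⟩
    have hker : (j.ker.comap V.ι).ideal ⟨W, hW⟩ = (j ∣_ V).ker.ideal ⟨W, hW⟩ := by
      rw [Scheme.IdealSheafData.ideal_comap_of_isOpenImmersion, Scheme.ker_morphismRestrict_ideal]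
      simp
      exact Ideal.comap_id _
    rw [hker, Scheme.Hom.ker_apply]
    haveI : IsClosedImmersion (j ∣_ V) := inferInstance
    have hfp : ((j ∣_ V).app W).hom.FinitePresentation := by
      rw [Scheme.Hom.app_eq_appLE]
      exact (j ∣_ V).finitePresentation_appLE hW (hW.preimage _) le_rfl
    algebraize [((j ∣_ V).app W).hom]
    exact Algebra.FinitePresentation.ker_fG_of_surjective (Algebra.ofId Γ(V.toScheme, W) Γ((j ⁻¹ᵁ V).toScheme, (j ∣_ V) ⁻¹ᵁ W))
      ((j ∣_ V).app_surjective W hW)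
  obtain ⟨N₀, hN₀⟩ := exists_le_of_directed (fun N : LimClosed.FTBelow j.ker => N.1.comap V.ι)
    (fun a b => by
      obtain ⟨c, hac, hbc⟩ := exists_ge_ge a b
      exact ⟨c, Scheme.IdealSheafData.comap_mono _ hac, Scheme.IdealSheafData.comap_mono _ hbc⟩)
    (j.ker.comap V.ι) hfg (by rw [← (Scheme.IdealSheafData.map_gc V.ι).l_iSup, LimClosed.iSup_ftBelow])
  refine ⟨N₀, fun N hN => ?_⟩
  let fN := N.1.subschemeι ≫ f'
  let h : X ⟶ N.1.subscheme := IsClosedImmersion.lift N.1.subschemeι j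
    ((Scheme.IdealSheafData.ker_subschemeι N.1).le.trans N.2.1)
  have hh : h ≫ N.1.subschemeι = j := IsClosedImmersion.lift_fac _ _ _
  haveI : IsClosedImmersion (h ≫ N.1.subschemeι) := by rw [hh]; infer_instance
  haveI : IsClosedImmersion h := IsClosedImmersion.of_comp h N.1.subschemeι
  let g := (fN ⁻¹ᵁ U).ι ≫ N.1.subschemeι
  let g' : (fN ⁻¹ᵁ U).toScheme ⟶ V.toScheme := IsOpenImmersion.lift V.ι g (by
    rw [Scheme.Opens.range_ι]
    rintro _ ⟨z, rfl⟩
    exact z.2)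
  have hg' : g' ≫ V.ι = g := IsOpenImmersion.lift_fac _ _ _
  have hle : j.ker ≤ g.ker := by
    refine le_trans ?_ (Scheme.IdealSheafData.map_bot g).le
    rw [Scheme.IdealSheafData.le_map_iff_comap_le, ← hg',
      Scheme.IdealSheafData.comap_comp]
    refine (Scheme.IdealSheafData.comap_mono g' (hN₀.trans (Scheme.IdealSheafData.comap_mono V.ι hN))).trans ?_
    show (N.1.comap V.ι).comap g' ≤ ⊥
    rw [← Scheme.IdealSheafData.comap_comp, hg', Scheme.IdealSheafData.comap_comp, comap_subschemeι_self,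
      Scheme.IdealSheafData.comap_bot]
  let l := IsClosedImmersion.lift j g hle
  have hl : l ≫ h = (fN ⁻¹ᵁ U).ι := by
    rw [← cancel_mono N.1.subschemeι, Category.assoc, hh]
    exact IsClosedImmersion.lift_fac _ _ _
  haveI : IsIso (h ∣_ (fN ⁻¹ᵁ U)) := ModPairFrac.isIso_restrict h (fN ⁻¹ᵁ U) l hl
  have hc : h ≫ fN = f := by rw [← Category.assoc, hh, w]
  haveI : IsIso ((h ∣_ (fN ⁻¹ᵁ U)) ≫ (fN ∣_ U)) := by
    subst hc
    rw [← morphismRestrict_comp]
    infer_instance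
  exact IsIso.of_isIso_comp_left (h ∣_ (fN ⁻¹ᵁ U)) (fN ∣_ U)

end Groth.Agent.ModPairLim
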