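import Mathlib
import Groth.Agent.S7380

set_option autoImplicit false
set_option backward.isDefEq.respectTransparency false
set_option backward.isDefEq.respectTransparency.types false

/-!
Cofiltered limits along scheme-theoretically dominant affine transition maps.
-/

universe u

open CategoryTheory CategoryTheory.Limits AlgebraicGeometry

namespace Groth.Agent.ModPairLim

theorem isSchemeTheoreticallyDominant_π {I : Type u} [SmallCategory I] [IsCofiltered I]
    (D : I ⥤ Scheme.{u}) (c : Cone D) (hc : IsLimit c) [∀ {i j} (f : i ⟶ j), IsAffineHom (D.map f)]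
    [∀ {i j} (f : i ⟶ j), IsSchemeTheoreticallyDominant (D.map f)] (i : I) :
    IsSchemeTheoreticallyDominant (c.π.app i) := by
  haveI := isAffineHom_π_app D c hc i
  refine ⟨Scheme.IdealSheafData.ext (funext fun U => ?_)⟩
  rw [Scheme.Hom.ker_apply, Scheme.IdealSheafData.ideal_bot, Pi.bot_apply, ← le_bot_iff]
  intro s hs
  obtain ⟨j, f, hj⟩ := exists_app_map_eq_zero_of_isLimit D c hc U.2.isCompact s hs
  exact (Submodule.mem_bot _).mpr ((D.map f).app_injective U.1 (hj.trans (map_zero _).symm))

/-- Morphisms into a finite type target descend along dominant transition maps. -/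
theorem exists_descend {S : Scheme.{u}} [QuasiSeparatedSpace S] {I : Type u} [SmallCategory I]
    [IsCofiltered I] (D : I ⥤ Over S) (c : Cone D) (hc : IsLimit c)
    [∀ (i j : I) (t : i ⟶ j), IsAffineHom (D.map t).left]
    [∀ (i j : I) (t : i ⟶ j), IsSchemeTheoreticallyDominant (D.map t).left]
    [∀ i, CompactSpace (D.obj i).left] [∀ i, QuasiSeparatedSpace (D.obj i).left]
    (Y : Over S) [CompactSpace Y.left] [QuasiSeparatedSpace Y.left] [LocallyOfFiniteType Y.hom]
    (φ : c.pt ⟶ Y) : ∃ (i : I) (φi : D.obj i ⟶ Y), c.π.app i ≫ φi = φ := by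
  haveI : IsConnected I := IsCofiltered.isConnected I
  let D' := D ⋙ Over.forget S
  let c' := (Over.forget S).mapCone c
  have hc' : IsLimit c' := isLimitOfPreserves _ hc
  haveI : ∀ {i j : I} (f : i ⟶ j), IsAffineHom (D'.map f) := fun f => inferInstanceAs (IsAffineHom (D.map f).left)
  haveI : ∀ {i j : I} (f : i ⟶ j), IsSchemeTheoreticallyDominant (D'.map f) :=
    fun f => inferInstanceAs (IsSchemeTheoreticallyDominant (D.map f).left)
  haveI : ∀ i, CompactSpace (D'.obj i) := fun i => inferInstanceAs (CompactSpace (D.obj i).left)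
  haveI : ∀ i, QuasiSeparatedSpace (D'.obj i) := fun i => inferInstanceAs (QuasiSeparatedSpace (D.obj i).left)
  obtain ⟨T, t, Ω, g, h1, h2, h3, hΩ, h4, h5⟩ := Groth.Agent.AbsApprox.exists_closedImmersion_opens Y.hom
  haveI : LocallyOfFinitePresentation (Ω.ι ≫ t) := inferInstance
  let τ : D' ⟶ (Functor.const I).obj S :=
    { app := fun i => (D.obj i).hom
      naturality := fun i j f => (Over.w (D.map f)).trans (Category.comp_id _).symm }
  obtain ⟨i, ψ, hψ, hψt⟩ := Scheme.exists_π_app_comp_eq_of_locallyOfFinitePresentation D' τ (Ω.ι ≫ t) c' hc'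
    (φ.left ≫ g) (by
      ext i
      show (c.π.app i).left ≫ (D.obj i).hom = (φ.left ≫ g) ≫ Ω.ι ≫ t
      have hg : g ≫ Ω.ι ≫ t = Y.hom := by simpa using h5
      rw [Over.w, Category.assoc, hg, Over.w]
      rfl)
  haveI := isSchemeTheoreticallyDominant_π D' c' hc' i
  let l := pullback.lift (c'.π.app i) φ.left hψ
  haveI : IsClosedImmersion (pullback.fst ψ g) := inferInstance
  haveI : IsIso (pullback.fst ψ g) := by
    refine IsClosedImmersion.isIso_iff_ker_eq_bot.mpr (le_bot_iff.mp ?_)
    calc (pullback.fst ψ g).ker ≤ (l ≫ pullback.fst ψ g).ker := Scheme.Hom.le_ker_comp _ _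
      _ = (c'.π.app i).ker := by rw [pullback.lift_fst]
      _ = ⊥ := Scheme.Hom.ker_eq_bot _
  refine ⟨i, Over.homMk (inv (pullback.fst ψ g) ≫ pullback.snd ψ g) ?_, ?_⟩
  · have hg : g ≫ Ω.ι ≫ t = Y.hom := by simpa using h5
    rw [← hg, Category.assoc, ← pullback.condition_assoc, IsIso.inv_hom_id_assoc]
    exact hψt
  · apply Over.OverMorphism.ext
    show c'.π.app i ≫ inv (pullback.fst ψ g) ≫ pullback.snd ψ g = φ.left
    have hl : l ≫ pullback.fst ψ g = c'.π.app i := pullback.lift_fst _ _ _
    rw [← hl, Category.assoc, IsIso.hom_inv_id_assoc, pullback.lift_snd]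

theorem exists_eq {S : Scheme.{u}} {I : Type u} [SmallCategory I]
    [IsCofiltered I] (D : I ⥤ Over S) (c : Cone D) (hc : IsLimit c)
    [∀ (i j : I) (t : i ⟶ j), IsAffineHom (D.map t).left]
    [∀ i, CompactSpace (D.obj i).left] (Y : Over S) [LocallyOfFiniteType Y.hom]
    (i : I) (φ ψ : D.obj i ⟶ Y) (h : c.π.app i ≫ φ = c.π.app i ≫ ψ) :
    ∃ (j : I) (t : j ⟶ i), D.map t ≫ φ = D.map t ≫ ψ := by
  haveI : IsConnected I := IsCofiltered.isConnected I
  let D' := D ⋙ Over.forget S
  let c' := (Over.forget S).mapCone c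
  have hc' : IsLimit c' := isLimitOfPreserves _ hc
  haveI : ∀ {i j : I} (f : i ⟶ j), IsAffineHom (D'.map f) := fun f => inferInstanceAs (IsAffineHom (D.map f).left)
  haveI : ∀ i, CompactSpace (D'.obj i) := fun i => inferInstanceAs (CompactSpace (D.obj i).left)
  let τ : D' ⟶ (Functor.const I).obj S :=
    { app := fun i => (D.obj i).hom
      naturality := fun i j f => (Over.w (D.map f)).trans (Category.comp_id _).symm }
  obtain ⟨k, f, hk⟩ := Scheme.exists_hom_comp_eq_comp_of_locallyOfFiniteType D' τ Y.hom c' hc'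
    φ.left ψ.left (Over.w φ).symm (Over.w ψ).symm (congrArg CommaMorphism.left h)
  exact ⟨k, f, Over.OverMorphism.ext hk⟩

end Groth.Agent.ModPairLim
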