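import Mathlib
import Groth.Agent.FpqcDescent.IdealGlue

set_option autoImplicit false
set_option backward.isDefEq.respectTransparency false
set_option backward.isDefEq.respectTransparency.types false

/-!
An inclusion of ideal sheaves, the smaller one locally principal, descends to a stage of a cofiltered
limit with affine transition morphisms.
-/

universe u

open CategoryTheory CategoryTheory.Limits AlgebraicGeometry Groth.Agent.FpqcDescent

namespace Groth.Agent.ModPairLim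

variable {I : Type u} [SmallCategory I] [IsCofiltered I] (D : I ⥤ Scheme.{u}) (c : Cone D)
  (hc : IsLimit c) [∀ {i j} (f : i ⟶ j), IsAffineHom (D.map f)]

include hc

theorem exists_appLE_lift {i : I} (U : (D.obj i).affineOpens) (a : Γ(c.pt, c.π.app i ⁻¹ᵁ U.1)) :
    ∃ (j : I) (t : j ⟶ i) (b : Γ(D.obj j, D.map t ⁻¹ᵁ U.1)),
      (c.π.app j).appLE (D.map t ⁻¹ᵁ U.1) (c.π.app i ⁻¹ᵁ U.1)
        (by rw [← Scheme.Hom.comp_preimage, c.w]) b = a := by
  haveI : ∀ j : Over i, IsAffine ((opensDiagram D i U.1).obj j) := fun j => U.2.preimage (D.map _)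
  obtain ⟨j, b, hb⟩ := exists_appTop_π_eq_of_isAffine_of_isLimit _ _
    (isLimitOpensCone D c hc i U.1) ((c.π.app i ⁻¹ᵁ U.1).topIso.inv a)
  refine ⟨j.left, j.hom, (D.map j.hom ⁻¹ᵁ U.1).topIso.hom b, ?_⟩
  have h := congrArg (c.π.app i ⁻¹ᵁ U.1).topIso.hom hb
  rw [Iso.inv_hom_id_apply] at h
  refine Eq.trans ?_ h
  have hcomm : (D.map j.hom ⁻¹ᵁ U.1).topIso.hom ≫ (c.π.app j.left).appLE (D.map j.hom ⁻¹ᵁ U.1)
        (c.π.app i ⁻¹ᵁ U.1) (by rw [← Scheme.Hom.comp_preimage, c.w]) =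
      ((opensCone D c i U.1).π.app j).appTop ≫ (c.π.app i ⁻¹ᵁ U.1).topIso.hom := by
    simp [Scheme.Hom.app_eq_appLE, Scheme.Hom.resLE_appLE, Scheme.Opens.topIso]
  exact ConcreteCategory.congr_hom hcomm b

theorem exists_map_mem {i : I} (U : (D.obj i).affineOpens) (K : Ideal Γ(D.obj i, U.1))
    (g : Γ(D.obj i, U.1))
    (hg : ((c.π.app i).app U.1).hom g ∈ K.map ((c.π.app i).app U.1).hom) :
    ∃ (j : I) (t : j ⟶ i), ((D.map t).app U.1).hom g ∈ K.map ((D.map t).app U.1).hom := by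
  have hw : ∀ {j : I} (t : j ⟶ i), c.π.app i ⁻¹ᵁ U.1 ≤ c.π.app j ⁻¹ᵁ (D.map t ⁻¹ᵁ U.1) := fun t => by
    rw [← Scheme.Hom.comp_preimage, c.w]
  have hr : ∀ {j k : I} {t : j ⟶ i} {r : k ⟶ i} (s : k ⟶ j), s ≫ t = r →
      D.map r ⁻¹ᵁ U.1 ≤ D.map s ⁻¹ᵁ (D.map t ⁻¹ᵁ U.1) := fun s h => by
    subst h; rw [← Scheme.Hom.comp_preimage, D.map_comp]
  let P {j : I} (t : j ⟶ i) := (c.π.app j).appLE _ _ (hw t)
  let R {j k : I} {t : j ⟶ i} {r : k ⟶ i} (s : k ⟶ j) (h : s ≫ t = r) :=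
    (D.map s).appLE _ _ (hr s h)
  have hTR : ∀ {j k : I} {t : j ⟶ i} {r : k ⟶ i} (s : k ⟶ j) (h : s ≫ t = r),
      (D.map t).app U.1 ≫ R s h = (D.map r).app U.1 := fun s h => by
    subst h
    simp only [R, Scheme.Hom.app_eq_appLE, Scheme.Hom.appLE_comp_appLE]
    exact appLE_congr (D.map_comp s _).symm _ _ _ _
  have hRP : ∀ {j k : I} {t : j ⟶ i} {r : k ⟶ i} (s : k ⟶ j) (h : s ≫ t = r),
      R s h ≫ P r = P t := fun s h => by
    simp only [R, P, Scheme.Hom.appLE_comp_appLE]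
    exact appLE_congr (c.w s) _ _ _ _
  have hTP : ∀ {j : I} (t : j ⟶ i), (D.map t).app U.1 ≫ P t = (c.π.app i).app U.1 := fun t => by
    simp only [P, Scheme.Hom.app_eq_appLE, Scheme.Hom.appLE_comp_appLE]
    exact appLE_congr (c.w t) _ _ _ _
  have hpush : ∀ {j k : I} {t : j ⟶ i} {r : k ⟶ i} (s : k ⟶ j) (h : s ≫ t = r)
      {y : Γ(D.obj j, D.map t ⁻¹ᵁ U.1)},
      y ∈ K.map ((D.map t).app U.1).hom → R s h y ∈ K.map ((D.map r).app U.1).hom := by
    intro j k t r s h y hy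
    rw [← hTR s h, CommRingCat.hom_comp, ← Ideal.map_map]
    exact Ideal.mem_map_of_mem _ hy
  obtain ⟨j, t, y, hy, hyg⟩ : ∃ (j : I) (t : j ⟶ i) (y : Γ(D.obj j, D.map t ⁻¹ᵁ U.1)),
      y ∈ K.map ((D.map t).app U.1).hom ∧ P t y = (c.π.app i).app U.1 g := by
    refine Submodule.span_induction (p := fun x _ => ∃ (j : I) (t : j ⟶ i)
      (y : Γ(D.obj j, D.map t ⁻¹ᵁ U.1)), y ∈ K.map ((D.map t).app U.1).hom ∧ P t y = x)
      ?_ ?_ ?_ ?_ hg
    · rintro _ ⟨a, ha, rfl⟩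
      exact ⟨i, 𝟙 i, (D.map (𝟙 i)).app U.1 a, Ideal.mem_map_of_mem _ ha,
        ConcreteCategory.congr_hom (hTP (𝟙 i)) a⟩
    · exact ⟨i, 𝟙 i, 0, zero_mem _, map_zero _⟩
    · rintro x x' - - ⟨j, t, y, hy, rfl⟩ ⟨j', t', y', hy', rfl⟩
      obtain ⟨k, s, s', hk⟩ := IsCofiltered.cospan t t'
      refine ⟨k, s' ≫ t', R s hk y + R s' rfl y', add_mem (hpush s hk hy) (hpush s' rfl hy'), ?_⟩
      rw [map_add]
      exact congr (congrArg (· + ·) (ConcreteCategory.congr_hom (hRP s hk) y))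
        (ConcreteCategory.congr_hom (hRP s' rfl) y')
    · rintro a x - ⟨j, t, y, hy, rfl⟩
      obtain ⟨j', t', b, rfl⟩ := exists_appLE_lift D c hc U a
      obtain ⟨k, s, s', hk⟩ := IsCofiltered.cospan t t'
      refine ⟨k, s' ≫ t', R s' rfl b • R s hk y, Ideal.mul_mem_left _ _ (hpush s hk hy), ?_⟩
      rw [smul_eq_mul, smul_eq_mul, map_mul]
      exact congr (congrArg (· * ·) (ConcreteCategory.congr_hom (hRP s' rfl) b))
        (ConcreteCategory.congr_hom (hRP s hk) y)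
  have hl : c.π.app j ⁻¹ᵁ (D.map t ⁻¹ᵁ U.1) ≤ c.π.app i ⁻¹ᵁ U.1 := by
    rw [← Scheme.Hom.comp_preimage, c.w]
  obtain ⟨k, s, hk⟩ := exists_app_map_eq_map_of_isLimit D c hc (U.2.preimage (D.map t)).isCompact
    ((D.map t).app U.1 g) y (by
      have e : P t ((D.map t).app U.1 g) = P t y :=
        (ConcreteCategory.congr_hom (hTP t) g).trans hyg.symm
      have h' := congrArg (c.pt.presheaf.map (homOfLE hl).op) e
      have hP : P t ≫ c.pt.presheaf.map (homOfLE hl).op = (c.π.app j).app (D.map t ⁻¹ᵁ U.1) := by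
        simp only [P, Scheme.Hom.app_eq_appLE]
        exact Scheme.Hom.appLE_map _ _ _
      simp only [← ConcreteCategory.comp_apply] at h' ⊢
      rw [← hP]
      exact h')
  refine ⟨k, s ≫ t, ?_⟩
  have e : R s (t := t) rfl ((D.map t).app U.1 g) = R s (t := t) rfl y := by
    simp only [R, Scheme.Hom.appLE, ConcreteCategory.comp_apply, hk]
  have e' : (D.map (s ≫ t)).app U.1 g = R s (t := t) rfl y :=
    (ConcreteCategory.congr_hom (hTR s (t := t) rfl) g).symm.trans e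
  exact e'.symm ▸ hpush s rfl hy

theorem exists_comap_le {i : I} [CompactSpace (D.obj i)] (J K : (D.obj i).IdealSheafData)
    (hJ : ∀ x, ∃ U : (D.obj i).affineOpens, x ∈ U.1 ∧ ∃ g : Γ(D.obj i, U.1), J.ideal U = Ideal.span {g})
    (h : J.comap (c.π.app i) ≤ K.comap (c.π.app i)) :
    ∃ (j : I) (t : j ⟶ i), J.comap (D.map t) ≤ K.comap (D.map t) := by
  classical
  haveI := isAffineHom_π_app D c hc i
  choose U hxU g hg using hJ
  have hloc : ∀ x, ∃ (j : I) (t : j ⟶ i),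
      ((D.map t).app (U x).1).hom (g x) ∈ (K.ideal (U x)).map ((D.map t).app (U x).1).hom := by
    intro x
    refine exists_map_mem D c hc (U x) _ _ ?_
    have hW : IsAffineOpen (c.π.app i ⁻¹ᵁ (U x).1) := (U x).2.preimage _
    have := h ⟨_, hW⟩
    rw [ideal_comap_appLE J _ (U x) ⟨_, hW⟩ le_rfl, ideal_comap_appLE K _ (U x) ⟨_, hW⟩ le_rfl,
      hg, Ideal.map_span, Set.image_singleton, Ideal.span_le, Set.singleton_subset_iff] at this
    simpa [Scheme.Hom.app_eq_appLE] using this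
  choose j t ht using hloc
  obtain ⟨s, hs⟩ := isCompact_univ.elim_finite_subcover (fun x => ((U x).1 : Set (D.obj i)))
    (fun x => (U x).1.2) (fun x _ => Set.mem_iUnion.2 ⟨x, hxU x⟩)
  let O : Finset I := insert i (s.image j)
  let H : Finset (Σ' (X Y : I) (_ : X ∈ O) (_ : Y ∈ O), X ⟶ Y) := s.attach.image fun x =>
    ⟨j x.1, i, Finset.mem_insert_of_mem (Finset.mem_image_of_mem j x.2),
      Finset.mem_insert_self _ _, t x.1⟩
  obtain ⟨k, T, hT⟩ := IsCofiltered.inf_exists O H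
  refine ⟨k, T (show i ∈ O by simp [O]), ?_⟩
  let τ := T (show i ∈ O by simp [O])
  refine Scheme.IdealSheafData.le_of_iSup_eq_top
    (fun x : s => ⟨D.map τ ⁻¹ᵁ (U x.1).1, (U x.1).2.preimage (D.map τ)⟩) ?_ ?_
  · refine top_le_iff.1 fun z _ => ?_
    obtain ⟨x, hx, hz⟩ := Set.mem_iUnion₂.1 (hs (Set.mem_univ (D.map τ z)))
    exact TopologicalSpace.Opens.mem_iSup.2 ⟨⟨x, hx⟩, hz⟩
  · rintro ⟨x, hx⟩
    have hjx : j x ∈ O := Finset.mem_insert_of_mem (Finset.mem_image_of_mem j hx)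
    have e : T hjx ≫ t x = τ := hT hjx (by simp [O]) (Finset.mem_image.2 ⟨⟨x, hx⟩, Finset.mem_attach _ _, rfl⟩)
    change (J.comap (D.map τ)).ideal _ ≤ (K.comap (D.map τ)).ideal _
    rw [ideal_comap_appLE J _ (U x) _ le_rfl, ideal_comap_appLE K _ (U x) _ le_rfl, hg,
      Ideal.map_span, Set.image_singleton, Ideal.span_le, Set.singleton_subset_iff, SetLike.mem_coe]
    have hle : D.map τ ⁻¹ᵁ (U x).1 ≤ D.map (T hjx) ⁻¹ᵁ (D.map (t x) ⁻¹ᵁ (U x).1) := by
      rw [← Scheme.Hom.comp_preimage, ← D.map_comp, e]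
    have hf : (D.map (t x)).app (U x).1 ≫ (D.map (T hjx)).appLE _ _ hle =
        (D.map τ).appLE (U x).1 (D.map τ ⁻¹ᵁ (U x).1) le_rfl := by
      simp only [Scheme.Hom.app_eq_appLE, Scheme.Hom.appLE_comp_appLE]
      exact appLE_congr (by rw [← D.map_comp, e]) _ _ _ _
    rw [← hf, CommRingCat.hom_comp, ← Ideal.map_map]
    exact Ideal.mem_map_of_mem _ (ht x)

end Groth.Agent.ModPairLim
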