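import Groth.Agent.ModPairLim.Approx
import Groth.Agent.ModPairLim.IdealLe
import Groth.Agent.AbsApprox.Basic
import Groth.Agent.S9220
import Groth.Agent.S7383
import Groth.Agent.S9199
import Mathlib

/-!
# Quasi-compact separated modulus pairs as limits of pairs of finite type
-/

set_option autoImplicit false
set_option backward.isDefEq.respectTransparency false
set_option backward.isDefEq.respectTransparency.types false
set_option linter.style.haveILetI false

universe u

open CategoryTheory Limits AlgebraicGeometry TopologicalSpace Opposite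

namespace Groth.Agent.ModPairLim

variable {X Y : Scheme.{u}}

/-- The ideal sheaf is principal near the point. -/
def PrinAt (L : X.IdealSheafData) (x : X) : Prop :=
  ∃ W : X.affineOpens, x ∈ W.1 ∧ ∃ g : Γ(X, W.1), L.ideal W = Ideal.span {g}

theorem prinAt_comap {L : Y.IdealSheafData} (f : X ⟶ Y) {x : X} (h : PrinAt L (f x)) : PrinAt (L.comap f) x := by
  obtain ⟨V, hV, g, hg⟩ := h
  obtain ⟨W, hW, hxW, hWV⟩ := exists_isAffineOpen_mem_and_subset (x := x) (U := f ⁻¹ᵁ V.1) hV
  exact ⟨⟨W, hW⟩, hxW, f.appLE V.1 W hWV g,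
    by rw [FpqcDescent.ideal_comap_appLE L f V ⟨W, hW⟩ hWV, hg, Ideal.map_span, Set.image_singleton]⟩

theorem ft_of_locally_fg [CompactSpace X] [QuasiSeparatedSpace X] (I : X.IdealSheafData)
    (hI : ∀ x : X, ∃ V : X.affineOpens, x ∈ V.1 ∧ (I.ideal V).FG) : ∀ V, (I.ideal V).FG := by
  obtain ⟨N, hN⟩ := exists_le_sup_ftBelow I ⊥ I hI le_sup_right
  rw [bot_sup_eq] at hN
  rw [le_antisymm hN N.2.1]
  exact N.2.2

/-- A generator of an effective Cartier ideal on an affine open is a nonzerodivisor. -/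
theorem generator_mem_nonZeroDivisors {I : X.IdealSheafData} (hI : BlowUp.IsEffCartierIdeal I) (V : X.affineOpens)
    {h : Γ(X, V.1)} (he : I.ideal V = Ideal.span {h}) : h ∈ nonZeroDivisors Γ(X, V.1) := by
  refine mem_nonZeroDivisors_iff_right.2 fun z hz => ?_
  refine X.IsSheaf.section_ext fun x hx => ?_
  obtain ⟨U, hxU, f, hf, hfe⟩ := hI x
  obtain ⟨W, hW, hxW, hWle⟩ := exists_isAffineOpen_mem_and_subset (x := x) (U := U.1 ⊓ V.1) ⟨hxU, hx⟩
  have hWU : W ≤ U.1 := fun y hy => (hWle hy).1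
  have hWV : W ≤ V.1 := fun y hy => (hWle hy).2
  refine ⟨W, hWV, hxW, ?_⟩
  let f' := (X.presheaf.map (homOfLE hWU).op).hom f
  let h' := (X.presheaf.map (homOfLE hWV).op).hom h
  have hf' : f' ∈ nonZeroDivisors Γ(X, W) :=
    BlowUpLib.mem_nonZeroDivisors_map_of_flat _ (BlowUpLib.flat_res U.2 hW hWU) hf
  have e : Ideal.span ({f'} : Set Γ(X, W)) = Ideal.span {h'} := by
    have h1 := I.map_ideal (U := ⟨W, hW⟩) (V := U) hWU
    have h2 := I.map_ideal (U := ⟨W, hW⟩) (V := V) hWV
    rw [hfe, Ideal.map_span, Set.image_singleton] at h1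
    rw [he, Ideal.map_span, Set.image_singleton] at h2
    exact h1.trans h2.symm
  obtain ⟨a, ha⟩ := Ideal.mem_span_singleton'.1 (e ▸ Ideal.mem_span_singleton_self f' : f' ∈ Ideal.span {h'})
  have hh' : h' ∈ nonZeroDivisors Γ(X, W) := (mul_mem_nonZeroDivisors.1 (ha.symm ▸ hf')).2
  have hz' : (X.presheaf.map (homOfLE hWV).op).hom z * h' = 0 :=
    (map_mul _ z h).symm.trans ((congrArg _ hz).trans (map_zero _))
  rw [mem_nonZeroDivisors_iff_right.1 hh' _ hz', map_zero]

/-- A locally principal ideal pulling back to an effective Cartier one along a schematically dominant affine morphism. -/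
theorem cartier_of_schDominant_comap (p : X ⟶ Y) [IsAffineHom p] [IsSchemeTheoreticallyDominant p]
    {J : Y.IdealSheafData} (hJ : ∀ y, PrinAt J y) (hI : BlowUp.IsEffCartierIdeal (J.comap p)) :
    BlowUp.IsEffCartierIdeal J := by
  intro y
  obtain ⟨W, hyW, g, hg⟩ := hJ y
  refine ⟨W, hyW, g, mem_nonZeroDivisors_iff_right.2 fun z hz => ?_, hg⟩
  have he : (J.comap p).ideal ⟨p ⁻¹ᵁ W.1, W.2.preimage p⟩ = Ideal.span {(p.app W.1).hom g} := by
    rw [FpqcDescent.ideal_comap_appLE J p W ⟨p ⁻¹ᵁ W.1, W.2.preimage p⟩ le_rfl, hg, Ideal.map_span,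
      Set.image_singleton, Scheme.Hom.app_eq_appLE]
  have hn := generator_mem_nonZeroDivisors hI _ he
  refine p.app_injective W.1 ?_
  rw [map_zero]
  exact mem_nonZeroDivisors_iff_right.1 hn _ ((map_mul (p.app W.1).hom z g).symm.trans
    ((congrArg _ hz).trans (map_zero _)))

section limit

variable {I : Type u} [SmallCategory I] [IsCofiltered I] (D : I ⥤ Scheme.{u}) (c : Cone D)
  (hc : IsLimit c) [∀ {i j} (f : i ⟶ j), IsAffineHom (D.map f)]
  [∀ i, CompactSpace (D.obj i)] [∀ i, QuasiSeparatedSpace (D.obj i)]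

include hc

theorem exists_prinAt_near {a : I} (L : (D.obj a).IdealSheafData) (hL : ∀ V, (L.ideal V).FG)
    (hI : BlowUp.IsEffCartierIdeal (L.comap (c.π.app a))) (x : c.pt) :
    ∃ (k : I) (t : k ⟶ a) (O : (D.obj k).Opens), c.π.app k x ∈ O ∧ ∀ y ∈ O, PrinAt (L.comap (D.map t)) y := by
  classical
  obtain ⟨U, hxU, f, -, hf⟩ := hI x
  obtain ⟨b, W₀, -, hW₀⟩ := exists_preimage_eq D c hc U.1 U.2.isCompact
  obtain ⟨m, u, v, -⟩ := IsCofilteredOrEmpty.cone_objs b a
  obtain ⟨W, hW, hxW, hWle⟩ := exists_isAffineOpen_mem_and_subset (X := D.obj m) (x := c.π.app m x)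
    (U := D.map u ⁻¹ᵁ W₀) (by
      show D.map u (c.π.app m x) ∈ W₀
      rw [← Scheme.Hom.comp_apply, c.w]
      exact hW₀.ge hxU)
  haveI := isAffineHom_π_app D c hc m
  have hle : c.π.app m ⁻¹ᵁ W ≤ U.1 := fun z hz => hW₀.le (by
    have := hWle hz
    show c.π.app b z ∈ W₀
    rw [← c.w u, Scheme.Hom.comp_apply]
    exact this)
  let f' : Γ(c.pt, c.π.app m ⁻¹ᵁ W) := (c.pt.presheaf.map (homOfLE hle).op).hom f
  obtain ⟨k, t, g, hg⟩ := exists_appLE_lift D c hc (i := m) ⟨W, hW⟩ f'
  let Wk : (D.obj k).affineOpens := ⟨D.map t ⁻¹ᵁ W, hW.preimage _⟩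
  haveI := isAffineHom_π_app D c hc k
  let Lk := L.comap (D.map (t ≫ v))
  have hek : c.π.app k ⁻¹ᵁ Wk.1 = c.π.app m ⁻¹ᵁ W := by rw [← Scheme.Hom.comp_preimage, c.w]
  have hIk : Lk.comap (c.π.app k) = L.comap (c.π.app a) := by
    rw [← Scheme.IdealSheafData.comap_comp, c.w]
  have hgen : (Lk.ideal Wk).map ((c.π.app k).app Wk.1).hom = Ideal.span {((c.π.app k).app Wk.1).hom g} := by
    have h1 : (Lk.comap (c.π.app k)).ideal ⟨c.π.app k ⁻¹ᵁ Wk.1, Wk.2.preimage _⟩ =
        (Lk.ideal Wk).map ((c.π.app k).app Wk.1).hom := by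
      rw [FpqcDescent.ideal_comap_appLE Lk _ Wk ⟨c.π.app k ⁻¹ᵁ Wk.1, Wk.2.preimage _⟩ le_rfl, Scheme.Hom.app_eq_appLE]
    rw [← h1, hIk]
    have hle' : c.π.app k ⁻¹ᵁ Wk.1 ≤ U.1 := hek.le.trans hle
    rw [← (L.comap (c.π.app a)).map_ideal (U := ⟨c.π.app k ⁻¹ᵁ Wk.1, Wk.2.preimage _⟩) (V := U) hle', hf,
      Ideal.map_span, Set.image_singleton]
    congr 2
    have h2 := congrArg (c.pt.presheaf.map (homOfLE hek.le).op).hom hg
    have h3 : ((c.π.app k).appLE Wk.1 (c.π.app m ⁻¹ᵁ W) hek.ge) ≫ c.pt.presheaf.map (homOfLE hek.le).op =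
        (c.π.app k).app Wk.1 :=
      (Scheme.Hom.appLE_map _ _ _).trans (Scheme.Hom.app_eq_appLE _).symm
    refine Eq.trans ?_ ((ConcreteCategory.congr_hom h3 g).symm.trans h2).symm
    show _ = (c.pt.presheaf.map (homOfLE hle).op ≫ c.pt.presheaf.map (homOfLE hek.le).op) f
    rw [← Functor.map_comp]
    rfl
  have hLk : (Lk.ideal Wk).FG := by
    have h1 : Lk.ideal Wk = (Lk.ideal Wk) := rfl
    exact ft_of_locally_fg Lk (fun y => by
      obtain ⟨V, hV, hxV, hVle⟩ := exists_isAffineOpen_mem_and_subset (X := D.obj k) (x := y)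
        (U := (⊤ : (D.obj k).Opens)) trivial
      exact fg_comap _ L (fun z => by
        obtain ⟨V', hV', hzV', -⟩ := exists_isAffineOpen_mem_and_subset (X := D.obj a) (x := z)
          (U := (⊤ : (D.obj a).Opens)) trivial
        exact ⟨⟨V', hV'⟩, hzV', hL _⟩) y) Wk
  obtain ⟨S, hS⟩ := hLk
  obtain ⟨k₁, t₁, hk₁⟩ := exists_map_mem D c hc Wk (Lk.ideal Wk) g (hgen ▸ Ideal.mem_span_singleton_self _)
  have hS' : ∀ l ∈ S, ∃ (j : I) (s : j ⟶ k),
      ((D.map s).app Wk.1).hom l ∈ (Ideal.span {g}).map ((D.map s).app Wk.1).hom := fun l hl => by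
    refine exists_map_mem D c hc Wk (Ideal.span {g}) l ?_
    rw [Ideal.map_span, Set.image_singleton, ← hgen]
    exact Ideal.mem_map_of_mem _ (hS ▸ Submodule.subset_span hl)
  choose j s hs using hS'
  let O : Finset I := insert k (insert k₁ (S.attach.image fun l => j l.1 l.2))
  have hjO : ∀ l : S, j l.1 l.2 ∈ O := fun l =>
    Finset.mem_insert_of_mem (Finset.mem_insert_of_mem (Finset.mem_image_of_mem _ (Finset.mem_attach _ l)))
  have hkO : k ∈ O := Finset.mem_insert_self _ _
  have hk₁O : k₁ ∈ O := Finset.mem_insert_of_mem (Finset.mem_insert_self _ _)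
  let H : Finset (Σ' (A B : I) (_ : A ∈ O) (_ : B ∈ O), A ⟶ B) :=
    insert ⟨k₁, k, hk₁O, hkO, t₁⟩ (S.attach.image fun l => ⟨j l.1 l.2, k, hjO l, hkO, s l.1 l.2⟩)
  obtain ⟨n, T, hT⟩ := IsCofiltered.inf_exists O H
  let τ := T hkO
  refine ⟨n, τ ≫ t ≫ v, D.map τ ⁻¹ᵁ Wk.1, ?_, fun y hy => ⟨⟨D.map τ ⁻¹ᵁ Wk.1, Wk.2.preimage _⟩, hy,
    ((D.map τ).app Wk.1).hom g, ?_⟩⟩
  · show D.map t (D.map τ (c.π.app n x)) ∈ W
    rw [← Scheme.Hom.comp_apply (c.π.app n), c.w, ← Scheme.Hom.comp_apply, c.w]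
    exact hxW
  · have hcomp : ∀ {A : I} (σ : n ⟶ A) (ρ : A ⟶ k) (_ : σ ≫ ρ = τ) (K : Ideal Γ(D.obj k, Wk.1)) (z : Γ(D.obj k, Wk.1)),
        ((D.map ρ).app Wk.1).hom z ∈ K.map ((D.map ρ).app Wk.1).hom →
          ((D.map τ).app Wk.1).hom z ∈ K.map ((D.map τ).app Wk.1).hom := by
      intro A σ ρ hσ K z hz
      have hl : D.map τ ⁻¹ᵁ Wk.1 ≤ D.map σ ⁻¹ᵁ (D.map ρ ⁻¹ᵁ Wk.1) := fun y hy => by
        show (D.map σ ≫ D.map ρ) y ∈ Wk.1
        rw [← D.map_comp, hσ]
        exact hy
      have e : (D.map ρ).app Wk.1 ≫ (D.map σ).appLE _ _ hl = (D.map τ).app Wk.1 := by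
        simp only [Scheme.Hom.app_eq_appLE, Scheme.Hom.appLE_comp_appLE]
        exact FpqcDescent.appLE_congr (by rw [← D.map_comp, hσ]) _ _ _ _
      rw [← e, CommRingCat.hom_comp, ← Ideal.map_map]
      exact Ideal.mem_map_of_mem _ hz
    have e0 : L.comap (D.map (τ ≫ t ≫ v)) = Lk.comap (D.map τ) := by
      rw [← Scheme.IdealSheafData.comap_comp, ← D.map_comp]
    rw [e0, FpqcDescent.ideal_comap_appLE Lk _ Wk ⟨D.map τ ⁻¹ᵁ Wk.1, Wk.2.preimage _⟩ le_rfl,
      ← Scheme.Hom.app_eq_appLE]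
    apply le_antisymm
    · rw [← hS, Ideal.map_span, Ideal.span_le]
      rintro _ ⟨l, hl, rfl⟩
      have := hcomp (T (hjO ⟨l, hl⟩)) (s l hl) (hT (hjO ⟨l, hl⟩) hkO (Finset.mem_insert_of_mem
        (Finset.mem_image.2 ⟨⟨l, hl⟩, Finset.mem_attach _ _, rfl⟩))) _ _ (hs l hl)
      rwa [Ideal.map_span, Set.image_singleton] at this
    · rw [Ideal.span_singleton_le_iff_mem]
      exact hcomp (T hk₁O) t₁ (hT hk₁O hkO (Finset.mem_insert_self _ _)) _ _ hk₁

theorem exists_prinAt {a : I} (L : (D.obj a).IdealSheafData) (hL : ∀ V, (L.ideal V).FG)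
    (hI : BlowUp.IsEffCartierIdeal (L.comap (c.π.app a))) :
    ∃ (k : I) (t : k ⟶ a), ∀ y, PrinAt (L.comap (D.map t)) y := by
  classical
  choose k t O hxO hO using exists_prinAt_near D c hc L hL hI
  haveI := isAffineHom_π_app D c hc a
  haveI : CompactSpace c.pt := QuasiCompact.compactSpace_of_compactSpace (c.π.app a)
  obtain ⟨s, hs⟩ := (CompactSpace.isCompact_univ (X := c.pt)).elim_finite_subcover
    (fun x => ((c.π.app (k x) ⁻¹ᵁ O x : c.pt.Opens) : Set c.pt)) (fun x => (c.π.app (k x) ⁻¹ᵁ O x).2)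
    (fun x _ => Set.mem_iUnion.2 ⟨x, hxO x⟩)
  let Os : Finset I := insert a (s.image k)
  have hkO : ∀ x : s, k x.1 ∈ Os := fun x => Finset.mem_insert_of_mem (Finset.mem_image_of_mem k x.2)
  have haO : a ∈ Os := Finset.mem_insert_self _ _
  let H : Finset (Σ' (A B : I) (_ : A ∈ Os) (_ : B ∈ Os), A ⟶ B) :=
    s.attach.image fun x => ⟨k x.1, a, hkO x, haO, t x.1⟩
  obtain ⟨n, T, hT⟩ := IsCofiltered.inf_exists Os H
  obtain ⟨m, w, hw⟩ := exists_map_eq_top D c hc (i := n) (⨆ x : s, D.map (T (hkO x)) ⁻¹ᵁ O x.1)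
    (top_le_iff.1 fun z _ => by
      obtain ⟨x, hx, hz⟩ := Set.mem_iUnion₂.1 (hs (Set.mem_univ z))
      refine Opens.mem_iSup.2 ⟨⟨x, hx⟩, ?_⟩
      show D.map (T (hkO ⟨x, hx⟩)) (c.π.app n z) ∈ O x
      rw [← Scheme.Hom.comp_apply, c.w]
      exact hz)
  refine ⟨m, w ≫ T haO, fun y => ?_⟩
  obtain ⟨x, hx⟩ := Opens.mem_iSup.1 (hw.ge (show y ∈ (⊤ : (D.obj m).Opens) from trivial))
  have hh : T (hkO x) ≫ t x.1 = T haO := hT _ _ (Finset.mem_image.2 ⟨x, Finset.mem_attach _ _, rfl⟩)
  rw [← hh, ← Category.assoc, D.map_comp, Scheme.IdealSheafData.comap_comp]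
  refine prinAt_comap _ (hO x.1 _ ?_)
  rw [D.map_comp, Scheme.Hom.comp_apply]
  exact hx

end limit

section image

variable (p : X ⟶ Y) [QuasiCompact p]

instance schDominant_toImage : IsSchemeTheoreticallyDominant p.toImage :=
  AbsApprox.std_of_cover _ fun y => by
    obtain ⟨V, hV, hyV, -⟩ := exists_isAffineOpen_mem_and_subset (x := p.imageι y) (U := (⊤ : Y.Opens)) trivial
    exact ⟨⟨p.imageι ⁻¹ᵁ V, hV.preimage _⟩, hyV, p.toImage_app_injective ⟨V, hV⟩⟩

end image

theorem schDominant_of_comp {Z : Scheme.{u}} (f : X ⟶ Y) (g : Y ⟶ Z) [IsSchemeTheoreticallyDominant (f ≫ g)] :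
    IsSchemeTheoreticallyDominant g :=
  ⟨le_bot_iff.1 ((Scheme.Hom.le_ker_comp f g).trans (Scheme.Hom.ker_eq_bot (f ≫ g)).le)⟩

section imageSystem

variable {S : Scheme.{u}} {K : Type u} [SmallCategory K] (Q : K ⥤ Over S) (c : Cone Q)
  [∀ l, QuasiCompact (c.π.app l).left]

/-- The scheme-theoretic image of the limit at a stage. -/
noncomputable abbrev img (l : K) : Scheme.{u} := (c.π.app l).left.image

theorem imgMap_le {l l' : K} (r : l ⟶ l') :
    (c.π.app l').left.imageι.ker ≤ ((c.π.app l).left.imageι ≫ (Q.map r).left).ker := by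
  rw [Scheme.IdealSheafData.ker_subschemeι]
  conv_lhs => rw [show (c.π.app l').left =
    (c.π.app l).left.toImage ≫ (c.π.app l).left.imageι ≫ (Q.map r).left by
      rw [Scheme.Hom.toImage_imageι_assoc]; exact (congrArg CommaMorphism.left (c.w r)).symm]
  exact le_of_eq (ker_comp_of_schDominant _ _)
where
  ker_comp_of_schDominant {X Y Z : Scheme.{u}} (q : X ⟶ Y) (g : Y ⟶ Z) [IsSchemeTheoreticallyDominant q] :
      (q ≫ g).ker = g.ker := by
    rw [← Scheme.IdealSheafData.map_bot, Scheme.IdealSheafData.map_comp, Scheme.IdealSheafData.map_bot,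
      Scheme.Hom.ker_eq_bot q, Scheme.IdealSheafData.map_bot]

/-- The transition maps between images. -/
noncomputable def imgMap {l l' : K} (r : l ⟶ l') : img Q c l ⟶ img Q c l' :=
  IsClosedImmersion.lift (c.π.app l').left.imageι ((c.π.app l).left.imageι ≫ (Q.map r).left) (imgMap_le Q c r)

theorem imgMap_ι {l l' : K} (r : l ⟶ l') :
    imgMap Q c r ≫ (c.π.app l').left.imageι = (c.π.app l).left.imageι ≫ (Q.map r).left :=
  IsClosedImmersion.lift_fac _ _ _

/-- The system of images. -/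
noncomputable def imgDiagram : K ⥤ Over S where
  obj l := Over.mk ((c.π.app l).left.imageι ≫ (Q.obj l).hom)
  map {l l'} r := Over.homMk (imgMap Q c r) (by
    show imgMap Q c r ≫ (c.π.app l').left.imageι ≫ (Q.obj l').hom = (c.π.app l).left.imageι ≫ (Q.obj l).hom
    rw [← Category.assoc, imgMap_ι, Category.assoc, Over.w (Q.map r)])
  map_id l := by
    ext1
    refine (cancel_mono (c.π.app l).left.imageι).1 ((imgMap_ι Q c (𝟙 l)).trans ?_)
    rw [Q.map_id]
    exact (Category.comp_id _).trans (Category.id_comp _).symm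
  map_comp {l l' l''} r r' := by
    ext1
    refine (cancel_mono (c.π.app l'').left.imageι).1 ((imgMap_ι Q c (r ≫ r')).trans ?_)
    show _ = (imgMap Q c r ≫ imgMap Q c r') ≫ _
    rw [Category.assoc, imgMap_ι, reassoc_of% imgMap_ι Q c r, Q.map_comp]
    rfl

/-- The inclusion of the images. -/
noncomputable def imgι (l : K) : (imgDiagram Q c).obj l ⟶ Q.obj l := Over.homMk (c.π.app l).left.imageι rfl

instance mono_imgι (l : K) : Mono (imgι Q c l) := by
  haveI : Mono (imgι Q c l).left := inferInstanceAs (Mono (c.π.app l).left.imageι)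
  exact Over.mono_of_mono_left _

theorem imgι_naturality {l l' : K} (r : l ⟶ l') :
    (imgDiagram Q c).map r ≫ imgι Q c l' = imgι Q c l ≫ Q.map r :=
  Over.OverMorphism.ext (imgMap_ι Q c r)

/-- The cone of images. -/
noncomputable def imgCone : Cone (imgDiagram Q c) where
  pt := c.pt
  π :=
    { app := fun l => Over.homMk (c.π.app l).left.toImage (by
        show (c.π.app l).left.toImage ≫ (c.π.app l).left.imageι ≫ (Q.obj l).hom = c.pt.hom
        rw [Scheme.Hom.toImage_imageι_assoc]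
        exact Over.w (c.π.app l))
      naturality := fun l l' r => by
        rw [← cancel_mono (imgι Q c l')]
        ext1
        show (𝟙 _ ≫ (c.π.app l').left.toImage) ≫ _ = ((c.π.app l).left.toImage ≫ imgMap Q c r) ≫ (c.π.app l').left.imageι
        rw [Category.id_comp, Category.assoc, imgMap_ι, Scheme.Hom.toImage_imageι_assoc]
        exact (Scheme.Hom.toImage_imageι _).trans (congrArg CommaMorphism.left (c.w r)).symm }

theorem imgCone_ι (l : K) : (imgCone Q c).π.app l ≫ imgι Q c l = c.π.app l :=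
  Over.OverMorphism.ext (Scheme.Hom.toImage_imageι _)

/-- A cone on the images gives one on the system. -/
noncomputable def coneOfImg (s : Cone (imgDiagram Q c)) : Cone Q where
  pt := s.pt
  π :=
    { app := fun l => s.π.app l ≫ imgι Q c l
      naturality := fun l l' r => by
        show 𝟙 _ ≫ s.π.app l' ≫ imgι Q c l' = (s.π.app l ≫ imgι Q c l) ≫ Q.map r
        rw [Category.id_comp, Category.assoc, ← imgι_naturality, ← Category.assoc, s.w] }

/-- The limit is also the limit of the images. -/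
noncomputable def isLimitImgCone (hc : IsLimit c) : IsLimit (imgCone Q c) where
  lift s := hc.lift (coneOfImg Q c s)
  fac s l := by
    rw [← cancel_mono (imgι Q c l), Category.assoc, imgCone_ι]
    exact hc.fac (coneOfImg Q c s) l
  uniq s m hm := hc.uniq (coneOfImg Q c s) m fun l => by
    rw [← imgCone_ι]
    exact (Category.assoc _ _ _).symm.trans (congrArg (· ≫ imgι Q c l) (hm l))

theorem schDominant_imgMap {l l' : K} (r : l ⟶ l') : IsSchemeTheoreticallyDominant (imgMap Q c r) := by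
  haveI : IsSchemeTheoreticallyDominant ((c.π.app l).left.toImage ≫ imgMap Q c r) := by
    have e1 : (c.π.app l).left.toImage ≫ imgMap Q c r = (c.π.app l').left.toImage :=
      congrArg CommaMorphism.left ((imgCone Q c).w r)
    rw [e1]
    infer_instance
  exact schDominant_of_comp (c.π.app l).left.toImage (imgMap Q c r)

end imageSystem

theorem exists_ftApprox {X S : Scheme.{u}} [CompactSpace S] [QuasiSeparatedSpace S] (IS : S.IdealSheafData)
    (IX : X.IdealSheafData) (hX : BlowUp.IsEffCartierIdeal IX) (f : X ⟶ S) [QuasiCompact f] [IsSeparated f]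
    (hf : IX ≤ IS.comap f) :
    ∃ (I : Type u) (_ : SmallCategory I) (_ : IsCofiltered I) (D : I ⥤ Over S) (c : Cone D) (_ : IsLimit c)
      (e : c.pt ≅ Over.mk f) (J : ∀ i, (D.obj i).left.IdealSheafData), (∀ i, BlowUp.IsEffCartierIdeal (J i)) ∧
      (∀ i, LocallyOfFiniteType (D.obj i).hom ∧ QuasiCompact (D.obj i).hom ∧ IsSeparated (D.obj i).hom) ∧
      (∀ i, J i ≤ IS.comap (D.obj i).hom) ∧
      (∀ (i j : I) (t : i ⟶ j), IsAffineHom (D.map t).left ∧ J i = (J j).comap (D.map t).left ∧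
        IsSchemeTheoreticallyDominant (D.map t).left) ∧
      ∀ i, IX = (J i).comap (e.inv.left ≫ (c.π.app i).left) := by
  classical
  haveI : CompactSpace X := QuasiCompact.compactSpace_of_compactSpace f
  haveI : QuasiSeparatedSpace X := quasiSeparatedSpace_of_quasiSeparated f
  obtain ⟨K, _, _, _, D, c, hc, hfp, haff, ⟨e⟩⟩ := S7383.result f
  haveI : IsCofiltered Kᵒᵖ := isCofiltered_op_of_isFiltered _
  haveI : IsConnected Kᵒᵖ := IsCofiltered.isConnected _
  let E := D ⋙ Over.forget S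
  haveI : ∀ {i j : Kᵒᵖ} (t : i ⟶ j), IsAffineHom (E.map t) := fun t => haff _ _ t
  haveI : ∀ i, CompactSpace (E.obj i) := fun i => by
    haveI := (hfp i).2.1
    exact QuasiCompact.compactSpace_of_compactSpace (D.obj i).hom
  haveI : ∀ i, QuasiSeparatedSpace (E.obj i) := fun i => by
    haveI := (hfp i).2.2
    exact quasiSeparatedSpace_of_quasiSeparated (D.obj i).hom
  let cE : Cone E := (Over.forget S).mapCone c
  have hcE : IsLimit cE := isLimitOfPreserves (Over.forget S) hc
  haveI he : IsIso e.hom.left := inferInstanceAs (IsIso ((Over.forget S).map e.hom))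
  have hew : e.hom.left ≫ f = c.pt.hom := Over.w e.hom
  haveI : IsSeparated c.pt.hom := hew ▸ inferInstance
  haveI : CompactSpace (Over.mk f).left := ‹CompactSpace X›
  haveI : QuasiSeparatedSpace (Over.mk f).left := ‹QuasiSeparatedSpace X›
  haveI : CompactSpace c.pt.left := QuasiCompact.compactSpace_of_compactSpace e.hom.left
  haveI : QuasiSeparatedSpace c.pt.left := quasiSeparatedSpace_of_quasiSeparated e.hom.left
  let IP : c.pt.left.IdealSheafData := IX.comap e.hom.left
  have hIP : BlowUp.IsEffCartierIdeal IP := BlowUpLib.cartier_comap_flat hX e.hom.left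
  obtain ⟨a, La, hLft, hLa⟩ := S9220.result E cE hcE IP (ft_of_locally_fg IP (fg_of_cartier hIP))
  replace hLa : La.comap (c.π.app a).left = IP := hLa
  obtain ⟨b, t₁, hprin⟩ := exists_prinAt E cE hcE La hLft (by show BlowUp.IsEffCartierIdeal (La.comap (c.π.app a).left); rw [hLa]; exact hIP)
  have hcw : ∀ {i j : Kᵒᵖ} (t : i ⟶ j), (c.π.app i).left ≫ (D.map t).left = (c.π.app j).left := fun t =>
    congrArg CommaMorphism.left (c.w t)
  obtain ⟨b', t₂, hamb⟩ := exists_comap_le E cE hcE (i := b) (La.comap (D.map t₁).left) (IS.comap (D.obj b).hom)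
    hprin (by
      show (La.comap (D.map t₁).left).comap (c.π.app b).left ≤ (IS.comap (D.obj b).hom).comap (c.π.app b).left
      rw [← Scheme.IdealSheafData.comap_comp, ← Scheme.IdealSheafData.comap_comp, hcw, hLa, Over.w (c.π.app b)]
      show IX.comap e.hom.left ≤ IS.comap c.pt.hom
      rw [← hew, Scheme.IdealSheafData.comap_comp]
      exact Scheme.IdealSheafData.comap_mono _ hf)
  let τs : E ⟶ (Functor.const Kᵒᵖ).obj S :=
    { app := fun i => (D.obj i).hom
      naturality := fun i j t => (Over.w (D.map t)).trans (Category.comp_id _).symm }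
  haveI : IsSeparated (cE.π.app b ≫ τs.app b) := by
    show IsSeparated ((c.π.app b).left ≫ (D.obj b).hom)
    rw [Over.w (c.π.app b)]
    show IsSeparated c.pt.hom
    infer_instance
  obtain ⟨s₁, hsep⟩ := S9199.result S E τs cE hcE b
  obtain ⟨o, u₁, u₂, -⟩ := IsCofilteredOrEmpty.cone_objs b' s₁
  let Q : Over o ⥤ Over S := Over.forget o ⋙ D
  let cQ : Cone Q := c.whisker (Over.forget o)
  have hQ : IsLimit cQ := (Functor.Initial.isLimitWhiskerEquiv (Over.forget o) c).symm hc
  haveI : ∀ i, IsAffineHom (cE.π.app i) := fun i => isAffineHom_π_app E cE hcE i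
  haveI : ∀ l : Over o, IsAffineHom (cQ.π.app l).left := fun l => inferInstanceAs (IsAffineHom (cE.π.app l.left))
  let g : ∀ l : Over o, l.left ⟶ b := fun l => l.hom ≫ u₁ ≫ t₂
  let Lb := La.comap (D.map t₁).left
  let J : ∀ l : Over o, (img Q cQ l).IdealSheafData :=
    fun l => (Lb.comap (D.map (g l)).left).comap (cQ.π.app l).left.imageι
  have hJpt : ∀ l, (J l).comap (cQ.π.app l).left.toImage = IP := fun l => by
    simp only [J, Lb, ← Scheme.IdealSheafData.comap_comp]
    rw [Scheme.Hom.toImage_imageι_assoc]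
    show La.comap ((c.π.app l.left).left ≫ (D.map (g l)).left ≫ (D.map t₁).left) = IP
    exact ((congrArg La.comap ((Category.assoc _ _ _).symm.trans
      ((congrArg (· ≫ (D.map t₁).left) (hcw (g l))).trans (hcw t₁))))).trans hLa
  refine ⟨Over o, inferInstance, inferInstance, imgDiagram Q cQ, imgCone Q cQ, isLimitImgCone Q cQ hQ, e, J,
    fun l => ?_, fun l => ?_, fun l => ?_, fun l l' r => ⟨?_, ?_, schDominant_imgMap Q cQ r⟩, fun l => ?_⟩
  · haveI : IsAffineHom ((cQ.π.app l).left.toImage ≫ (cQ.π.app l).left.imageι) := by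
      rw [Scheme.Hom.toImage_imageι]; infer_instance
    haveI : IsAffineHom (cQ.π.app l).left.toImage := IsAffineHom.of_comp _ (cQ.π.app l).left.imageι
    refine cartier_of_schDominant_comap (cQ.π.app l).left.toImage (fun y => ?_) (by rw [hJpt]; exact hIP)
    exact prinAt_comap _ (prinAt_comap _ (hprin _))
  · haveI := (hfp l.left).1
    haveI := (hfp l.left).2.1
    haveI : IsSeparated (D.obj l.left).hom := hsep l.left (l.hom ≫ u₂)
    exact ⟨inferInstanceAs (LocallyOfFiniteType ((cQ.π.app l).left.imageι ≫ (D.obj l.left).hom)),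
      inferInstanceAs (QuasiCompact ((cQ.π.app l).left.imageι ≫ (D.obj l.left).hom)),
      inferInstanceAs (IsSeparated ((cQ.π.app l).left.imageι ≫ (D.obj l.left).hom))⟩
  · show (Lb.comap (D.map (g l)).left).comap (cQ.π.app l).left.imageι ≤
      IS.comap ((cQ.π.app l).left.imageι ≫ (D.obj l.left).hom)
    rw [Scheme.IdealSheafData.comap_comp]
    refine Scheme.IdealSheafData.comap_mono _ ?_
    have h1 := Scheme.IdealSheafData.comap_mono (D.map (l.hom ≫ u₁)).left hamb
    change (Lb.comap (D.map t₂).left).comap _ ≤ ((IS.comap (D.obj b).hom).comap (D.map t₂).left).comap _ at h1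
    simp only [← Scheme.IdealSheafData.comap_comp, ← Over.comp_left_assoc, ← Over.comp_left, ← D.map_comp,
      Over.w, Category.assoc] at h1
    exact h1
  · show IsAffineHom (imgMap Q cQ r)
    haveI : IsAffineHom (imgMap Q cQ r ≫ (cQ.π.app l').left.imageι) := by
      rw [imgMap_ι]
      haveI : IsAffineHom (Q.map r).left := haff _ _ r.left
      infer_instance
    exact IsAffineHom.of_comp (imgMap Q cQ r) (cQ.π.app l').left.imageι
  · show J l = (J l').comap (imgMap Q cQ r)
    simp only [J, ← Scheme.IdealSheafData.comap_comp]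
    rw [reassoc_of% imgMap_ι Q cQ r]
    show Lb.comap ((cQ.π.app l).left.imageι ≫ (D.map (g l)).left) =
      Lb.comap ((cQ.π.app l).left.imageι ≫ (D.map r.left).left ≫ (D.map (g l')).left)
    rw [← Over.comp_left, ← D.map_comp]
    simp only [g, Over.w_assoc]
  · show IX = (J l).comap (e.inv.left ≫ (cQ.π.app l).left.toImage)
    rw [Scheme.IdealSheafData.comap_comp, hJpt]
    show IX = (IX.comap e.hom.left).comap e.inv.left
    rw [← Scheme.IdealSheafData.comap_comp, ← Over.comp_left, e.inv_hom_id]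
    exact (Scheme.IdealSheafData.comap_id IX).symm

end Groth.Agent.ModPairLim
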