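import Groth.Agent.ModPairLim.Refine
import Groth.Agent.S18745
import Groth.Agent.ModPairLim.Basic
import Mathlib

set_option autoImplicit false
set_option backward.isDefEq.respectTransparency false
set_option backward.isDefEq.respectTransparency.types false

/-!
Morphisms in the localisation at admissible blow-ups and limits of modulus pairs.
-/

universe u

open CategoryTheory CategoryTheory.Limits AlgebraicGeometry ModPair

namespace Groth.Agent.ModPairLim

theorem isIso_Q {P R : Pair.{u}} {s : P ⟶ R} (hs : Pair.admBlowup.{u} s) : IsIso ((Pair.admBlowup.{u}).Q.map s) :=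
  Localization.inverts (Pair.admBlowup.{u}).Q Pair.admBlowup.{u} s hs

theorem comp_adm {P R T : Pair.{u}} {s : P ⟶ R} {t : R ⟶ T} (hs : Pair.admBlowup.{u} s) (ht : Pair.admBlowup.{u} t) : Pair.admBlowup.{u} (s ≫ t) :=
  ModPairFrac.isMultiplicative.comp_mem s t hs ht

theorem exists_fraction_over {X Y S : Pair.{u}} (fX : X ⟶ S) (fY : Y ⟶ S)
    (φ : (Pair.admBlowup.{u}).Q.obj X ⟶ (Pair.admBlowup.{u}).Q.obj Y) (hφ : φ ≫ (Pair.admBlowup.{u}).Q.map fY = (Pair.admBlowup.{u}).Q.map fX) :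
    ∃ (P : Pair.{u}) (t : P ⟶ X) (g : P ⟶ Y), Pair.admBlowup.{u} t ∧ t ≫ fX = g ≫ fY ∧ (Pair.admBlowup.{u}).Q.map t ≫ φ = (Pair.admBlowup.{u}).Q.map g := by
  haveI := ModPairFrac.hasRightCalculusOfFractions.{u}
  obtain ⟨z, hz⟩ := Localization.exists_rightFraction (Pair.admBlowup.{u}).Q Pair.admBlowup.{u} φ
  have h1 : (Pair.admBlowup.{u}).Q.map z.s ≫ φ = (Pair.admBlowup.{u}).Q.map z.f := by
    rw [hz]; exact z.map_s_comp_map _ _
  have h2 : (Pair.admBlowup.{u}).Q.map (z.f ≫ fY) = (Pair.admBlowup.{u}).Q.map (z.s ≫ fX) := by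
    rw [Functor.map_comp, Functor.map_comp, ← h1, Category.assoc, hφ]
  obtain ⟨P, u, hu, he⟩ := (MorphismProperty.map_eq_iff_precomp (Pair.admBlowup.{u}).Q Pair.admBlowup.{u} _ _).1 h2
  refine ⟨P, u ≫ z.s, u ≫ z.f, comp_adm hu z.hs, ?_, ?_⟩
  · rw [Category.assoc, Category.assoc, he]
  · rw [Functor.map_comp, Category.assoc, h1, Functor.map_comp]

variable {S : Pair.{u}} [CompactSpace S.total] [QuasiSeparatedSpace S.total]

theorem exists_descend_localized {I : Type u} [SmallCategory I] [IsCofiltered I] {D : I ⥤ Over S} {c : Cone D}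
    (h : LimSys S D c) (Y : Over S) [CompactSpace Y.left.total] [QuasiSeparatedSpace Y.left.total]
    [LocallyOfFiniteType Y.hom.hom]
    (hdf : (∀ (i j : I) (t : i ⟶ j), IsSchemeTheoreticallyDominant (D.map t).left.hom) ∨
      LocallyOfFinitePresentation Y.hom.hom)
    (φ : (Pair.admBlowup.{u}).Q.obj c.pt.left ⟶ (Pair.admBlowup.{u}).Q.obj Y.left)
    (hφ : φ ≫ (Pair.admBlowup.{u}).Q.map Y.hom = (Pair.admBlowup.{u}).Q.map c.pt.hom) :
    ∃ (i : I) (φi : (Pair.admBlowup.{u}).Q.obj (D.obj i).left ⟶ (Pair.admBlowup.{u}).Q.obj Y.left),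
      φi ≫ (Pair.admBlowup.{u}).Q.map Y.hom = (Pair.admBlowup.{u}).Q.map (D.obj i).hom ∧ (Pair.admBlowup.{u}).Q.map (c.π.app i).left ≫ φi = φ := by
  haveI : IsConnected I := IsCofiltered.isConnected I
  obtain ⟨P, t, g, ht, htg, hQ⟩ := exists_fraction_over c.pt.hom Y.hom φ hφ
  let F := totals S ⋙ Over.forget S.total
  let cS : Cone (D ⋙ F) := (Over.forget S.total).mapCone ((totals S).mapCone c)
  have hcS : IsLimit cS := isLimitOfPreserves (Over.forget S.total) h.isLimit.some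
  haveI : ∀ {i j : I} (a : i ⟶ j), IsAffineHom ((D ⋙ F).map a) := fun {i j} a => h.affine i j a
  haveI : ∀ i, CompactSpace ((D ⋙ F).obj i) := h.compact
  haveI : ∀ i, QuasiSeparatedSpace ((D ⋙ F).obj i) := h.qs
  obtain ⟨ht1, ht2, ht3⟩ := ht
  obtain ⟨i, Yi, IYi, si, hYi, hadm, e, he⟩ := exists_descend_admBlowup (D ⋙ F) cS hcS
    (fun i => (D.obj i).left.mod) (fun i => (D.obj i).left.isEffCartier) (fun i j a => h.minimal i j a)
    c.pt.left.mod h.pt_mod t.hom (by exact ht1 ▸ P.isEffCartier) ⟨rfl, ht2, ht3⟩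
  let P' : Pair.{u} := ⟨Yi, IYi, hYi⟩
  let s : P' ⟶ (D.obj i).left := ⟨si, hadm.1.le⟩
  obtain ⟨D', c', hsys, bl, b, hbl, hb, hblS, hbS, hsq, hπ, ⟨eo, heo⟩, hdom⟩ := exists_refine h i P' s hadm
  let o : Over i := Over.mk (𝟙 i)
  -- the limit of the strict transforms maps to the given blow-up
  have hb' : b.hom ≫ cS.π.app i = ((c'.π.app o).left ≫ eo).hom ≫ si := by
    have := congrArg Pair.Hom.hom (hπ o)
    rw [← heo] at this
    exact this.symm.trans (Category.assoc _ _ _).symm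
  let w : c'.pt.left.total ⟶ pullback (cS.π.app i) si := pullback.lift b.hom _ hb'
  have hVU : prodInterior (cS.π.app i) si c.pt.left.mod IYi =
      HTop.awayFrom (c.pt.left.mod.comap (pullback.fst (cS.π.app i) si)) := by
    rw [AlmostBlow.awayFrom_comap]
    refine le_antisymm inf_le_left fun x hx => ⟨hx, ?_⟩
    show pullback.snd (cS.π.app i) si x ∈ ModPair.interior IYi
    rw [ModPairFrac.preimage_interior hadm.1]
    show si (pullback.snd (cS.π.app i) si x) ∈ ModPair.interior _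
    rw [← Scheme.Hom.comp_apply, ← pullback.condition, Scheme.Hom.comp_apply]
    have hx' : pullback.fst (cS.π.app i) si x ∈ ModPair.interior c.pt.left.mod := hx
    rw [ModPairFrac.preimage_interior (h.pt_mod i)] at hx'
    exact hx'
  have hker : (mprodι (cS.π.app i) si c.pt.left.mod IYi).ker ≤ w.ker := by
    rw [show mprodι (cS.π.app i) si c.pt.left.mod IYi =
      (prodInterior (cS.π.app i) si c.pt.left.mod IYi).ι.ker.subschemeι from rfl,
      Scheme.IdealSheafData.ker_subschemeι, hVU]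
    refine AlmostBlow.supportedOn_le_ker w ?_
    rw [← Scheme.IdealSheafData.comap_comp, pullback.lift_fst]
    exact hb.1 ▸ c'.pt.left.isEffCartier
  let v := IsClosedImmersion.lift (mprodι (cS.π.app i) si c.pt.left.mod IYi) w hker ≫ e.inv
  have hv : v ≫ t.hom = b.hom := by
    rw [← he]
    simp only [v, Category.assoc, Iso.inv_hom_id_assoc, IsClosedImmersion.lift_fac_assoc]
    exact pullback.lift_fst _ _ _
  let u : c'.pt.left ⟶ P := ⟨v, by
    show c'.pt.left.mod ≤ P.mod.comap v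
    rw [ht1, ← Scheme.IdealSheafData.comap_comp, hv]
    exact b.cond⟩
  have hu : u ≫ t = b := Pair.Hom.ext hv
  -- descend the numerator
  let ψ : c'.pt ⟶ Y := Over.homMk (u ≫ g) (by
    rw [Category.assoc, ← htg, reassoc_of% hu, hbS])
  haveI : ∀ (l m : Over i) (a : l ⟶ m), IsAffineHom ((D' ⋙ totals S).map a).left := fun l m a => hsys.affine l m a
  haveI : ∀ l, CompactSpace ((D' ⋙ totals S).obj l).left := hsys.compact
  haveI : ∀ l, QuasiSeparatedSpace ((D' ⋙ totals S).obj l).left := hsys.qs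
  haveI : CompactSpace ((totals S).obj Y).left := ‹CompactSpace Y.left.total›
  haveI : QuasiSeparatedSpace ((totals S).obj Y).left := ‹QuasiSeparatedSpace Y.left.total›
  haveI : LocallyOfFiniteType ((totals S).obj Y).hom := ‹LocallyOfFiniteType Y.hom.hom›
  obtain ⟨l, ψl, hamb, hψl⟩ := Groth.Agent.S18745.result (S := S.total) (D' ⋙ totals S) ((totals S).mapCone c')
    hsys.isLimit.some (fun l => (D'.obj l).left.mod) (fun l => (D'.obj l).left.isEffCartier) hsys.minimal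
    c'.pt.left.mod hsys.pt_mod ((totals S).obj Y) Y.left.mod Y.left.isEffCartier
    (hdf.imp (fun hd l m a => hdom hd l m a) id) ((totals S).map ψ) ψ.left.cond
  let g' : (D'.obj l).left ⟶ Y.left := ⟨ψl.left, hamb⟩
  have hg' : g' ≫ Y.hom = (D'.obj l).hom := Pair.Hom.ext (Over.w ψl)
  have hg'' : (c'.π.app l).left ≫ g' = u ≫ g := Pair.Hom.ext (congrArg (·.left) hψl)
  haveI := isIso_Q (hbl l)
  haveI := isIso_Q hb
  refine ⟨l.left, inv ((Pair.admBlowup.{u}).Q.map (bl l)) ≫ (Pair.admBlowup.{u}).Q.map g', ?_, ?_⟩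
  · rw [Category.assoc, IsIso.inv_comp_eq, ← Functor.map_comp, ← Functor.map_comp, hg', hblS]
  · have h1 : (Pair.admBlowup.{u}).Q.map b ≫ (Pair.admBlowup.{u}).Q.map (c.π.app l.left).left =
        (Pair.admBlowup.{u}).Q.map (c'.π.app l).left ≫ (Pair.admBlowup.{u}).Q.map (bl l) := by
      rw [← Functor.map_comp, ← Functor.map_comp, hπ l]
    rw [← cancel_epi ((Pair.admBlowup.{u}).Q.map b), reassoc_of% h1, IsIso.hom_inv_id_assoc, ← Functor.map_comp, hg'',
      Functor.map_comp, ← hu, Functor.map_comp, Category.assoc, hQ]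

theorem exists_eq_localized {I : Type u} [SmallCategory I] [IsCofiltered I] {D : I ⥤ Over S} {c : Cone D}
    (h : LimSys S D c) (Y : Over S) [CompactSpace Y.left.total] [QuasiSeparatedSpace Y.left.total]
    [LocallyOfFiniteType Y.hom.hom]
    (i : I) (φ ψ : (Pair.admBlowup.{u}).Q.obj (D.obj i).left ⟶ (Pair.admBlowup.{u}).Q.obj Y.left)
    (hφ : φ ≫ (Pair.admBlowup.{u}).Q.map Y.hom = (Pair.admBlowup.{u}).Q.map (D.obj i).hom)
    (hψ : ψ ≫ (Pair.admBlowup.{u}).Q.map Y.hom = (Pair.admBlowup.{u}).Q.map (D.obj i).hom)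
    (heq : (Pair.admBlowup.{u}).Q.map (c.π.app i).left ≫ φ = (Pair.admBlowup.{u}).Q.map (c.π.app i).left ≫ ψ) :
    ∃ (j : I) (t : j ⟶ i), (Pair.admBlowup.{u}).Q.map (D.map t).left ≫ φ = (Pair.admBlowup.{u}).Q.map (D.map t).left ≫ ψ := by
  haveI := ModPairFrac.hasRightCalculusOfFractions.{u}
  obtain ⟨P₁, t₁, g₁, ht₁, htg₁, hQ₁⟩ := exists_fraction_over (D.obj i).hom Y.hom φ hφ
  obtain ⟨P₂, t₂, g₂, ht₂, htg₂, hQ₂⟩ := exists_fraction_over (D.obj i).hom Y.hom ψ hψ
  obtain ⟨P₀, p, q, hp, hpq⟩ := ModPairFrac.exists_square t₁ t₂ ht₂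
  let s := p ≫ t₁
  obtain ⟨D₁, c₁, hsys₁, bl, b, hbl, hb, hblS, hbS, hsq, hπ, ⟨eo, heo⟩, -⟩ :=
    exists_refine h i P₀ s (comp_adm hp ht₁)
  let o : Over i := Over.mk (𝟙 i)
  let G₁ : (D₁.obj o).left ⟶ Y.left := eo ≫ p ≫ g₁
  let G₂ : (D₁.obj o).left ⟶ Y.left := eo ≫ q ≫ g₂
  have hG₁ : (Pair.admBlowup.{u}).Q.map (bl o) ≫ φ = (Pair.admBlowup.{u}).Q.map G₁ := by
    rw [show bl o = eo ≫ p ≫ t₁ from heo.symm]
    simp only [G₁, Functor.map_comp, Category.assoc, hQ₁]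
  have hG₂ : (Pair.admBlowup.{u}).Q.map (bl o) ≫ ψ = (Pair.admBlowup.{u}).Q.map G₂ := by
    rw [← heo, show s = q ≫ t₂ from hpq]
    simp only [G₂, Functor.map_comp, Category.assoc, hQ₂]
  let F₁ : D₁.obj o ⟶ Y := Over.homMk G₁ (by
    simp only [G₁, Category.assoc, ← htg₁]
    rw [← hblS o, ← heo]
    simp [s, o])
  let F₂ : D₁.obj o ⟶ Y := Over.homMk G₂ (by
    simp only [G₂, Category.assoc, ← htg₂]
    rw [← hblS o, ← heo, show s = q ≫ t₂ from hpq]
    simp [o])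
  have hlim : (Pair.admBlowup.{u}).Q.map ((c₁.π.app o).left ≫ G₁) = (Pair.admBlowup.{u}).Q.map ((c₁.π.app o).left ≫ G₂) := by
    rw [Functor.map_comp _ _ G₁, Functor.map_comp _ _ G₂, ← hG₁, ← hG₂, ← Category.assoc, ← Category.assoc,
      ← Functor.map_comp, hπ o, Functor.map_comp, Category.assoc, Category.assoc]
    exact congrArg _ heq
  obtain ⟨P₃, u, hu, hue⟩ := (MorphismProperty.map_eq_iff_precomp (Pair.admBlowup.{u}).Q Pair.admBlowup.{u} _ _).1 hlim
  -- descend the equalising blow-up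
  haveI : IsConnected (Over i) := IsCofiltered.isConnected _
  let F := totals S ⋙ Over.forget S.total
  let cS : Cone (D₁ ⋙ F) := (Over.forget S.total).mapCone ((totals S).mapCone c₁)
  have hcS : IsLimit cS := isLimitOfPreserves (Over.forget S.total) hsys₁.isLimit.some
  haveI : ∀ {l m : Over i} (a : l ⟶ m), IsAffineHom ((D₁ ⋙ F).map a) := fun {l m} a => hsys₁.affine l m a
  haveI : ∀ l, CompactSpace ((D₁ ⋙ F).obj l) := hsys₁.compact
  haveI : ∀ l, QuasiSeparatedSpace ((D₁ ⋙ F).obj l) := hsys₁.qs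
  obtain ⟨l, Yl, IYl, sl, hYl, hadm, e, he⟩ := exists_descend_admBlowup (D₁ ⋙ F) cS hcS
    (fun l => (D₁.obj l).left.mod) (fun l => (D₁.obj l).left.isEffCartier) (fun l m a => hsys₁.minimal l m a)
    c₁.pt.left.mod hsys₁.pt_mod u.hom (by exact hu.1 ▸ P₃.isEffCartier) ⟨rfl, hu.2.1, hu.2.2⟩
  let P' : Pair.{u} := ⟨Yl, IYl, hYl⟩
  let sP : P' ⟶ (D₁.obj l).left := ⟨sl, hadm.1.le⟩
  obtain ⟨D₂, c₂, hsys₂, bl₂, b₂, hbl₂, hb₂, hblS₂, hbS₂, hsq₂, hπ₂, ⟨eo₂, heo₂⟩, -⟩ :=
    exists_refine hsys₁ l P' sP hadm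
  -- the second limit maps to the equalising blow-up
  let o₂ : Over l := Over.mk (𝟙 l)
  have hb' : b₂.hom ≫ cS.π.app l = ((c₂.π.app o₂).left ≫ eo₂).hom ≫ sl := by
    have := congrArg Pair.Hom.hom (hπ₂ o₂)
    rw [← heo₂] at this
    exact this.symm.trans (Category.assoc _ _ _).symm
  let w : c₂.pt.left.total ⟶ pullback (cS.π.app l) sl := pullback.lift b₂.hom _ hb'
  have hVU : prodInterior (cS.π.app l) sl c₁.pt.left.mod IYl =
      HTop.awayFrom (c₁.pt.left.mod.comap (pullback.fst (cS.π.app l) sl)) := by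
    rw [AlmostBlow.awayFrom_comap]
    refine le_antisymm inf_le_left fun x hx => ⟨hx, ?_⟩
    show pullback.snd (cS.π.app l) sl x ∈ ModPair.interior IYl
    rw [ModPairFrac.preimage_interior hadm.1]
    show sl (pullback.snd (cS.π.app l) sl x) ∈ ModPair.interior _
    rw [← Scheme.Hom.comp_apply, ← pullback.condition, Scheme.Hom.comp_apply]
    have hx' : pullback.fst (cS.π.app l) sl x ∈ ModPair.interior c₁.pt.left.mod := hx
    rw [ModPairFrac.preimage_interior (hsys₁.pt_mod l)] at hx'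
    exact hx'
  have hker : (mprodι (cS.π.app l) sl c₁.pt.left.mod IYl).ker ≤ w.ker := by
    rw [show mprodι (cS.π.app l) sl c₁.pt.left.mod IYl =
      (prodInterior (cS.π.app l) sl c₁.pt.left.mod IYl).ι.ker.subschemeι from rfl,
      Scheme.IdealSheafData.ker_subschemeι, hVU]
    refine AlmostBlow.supportedOn_le_ker w ?_
    rw [← Scheme.IdealSheafData.comap_comp, pullback.lift_fst]
    exact hb₂.1 ▸ c₂.pt.left.isEffCartier
  let v := IsClosedImmersion.lift (mprodι (cS.π.app l) sl c₁.pt.left.mod IYl) w hker ≫ e.inv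
  have hv : v ≫ u.hom = b₂.hom := by
    rw [← he]
    simp only [v, Category.assoc, Iso.inv_hom_id_assoc, IsClosedImmersion.lift_fac_assoc]
    exact pullback.lift_fst _ _ _
  let uu : c₂.pt.left ⟶ P₃ := ⟨v, by
    show c₂.pt.left.mod ≤ P₃.mod.comap v
    rw [hu.1, ← Scheme.IdealSheafData.comap_comp, hv]
    exact b₂.cond⟩
  have huu : uu ≫ u = b₂ := Pair.Hom.ext hv
  have hagree : (b₂ ≫ (c₁.π.app o).left) ≫ G₁ = (b₂ ≫ (c₁.π.app o).left) ≫ G₂ := by
    rw [← huu, Category.assoc, Category.assoc, Category.assoc, Category.assoc, hue]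
  -- the numerators agree at a stage
  let r : o₂.left ⟶ o := Over.homMk (show o₂.left.left ⟶ i from o₂.left.hom) (by simp [o])
  let A : D₂.obj o₂ ⟶ D₁.obj o := Over.homMk (bl₂ o₂ ≫ (D₁.map r).left)
    (by rw [Category.assoc, Over.w, hblS₂])
  haveI : ∀ (m n : Over l) (a : m ⟶ n), IsAffineHom ((D₂ ⋙ totals S).map a).left := fun m n a => hsys₂.affine m n a
  haveI : ∀ m, CompactSpace ((D₂ ⋙ totals S).obj m).left := hsys₂.compact
  haveI : LocallyOfFiniteType ((totals S).obj Y).hom := ‹LocallyOfFiniteType Y.hom.hom›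
  have hA : c₂.π.app o₂ ≫ A ≫ F₁ = c₂.π.app o₂ ≫ A ≫ F₂ := by
    have key : (c₂.π.app o₂).left ≫ bl₂ o₂ ≫ (D₁.map r).left = b₂ ≫ (c₁.π.app o).left := by
      rw [reassoc_of% (hπ₂ o₂)]
      exact congrArg (b₂ ≫ ·) (congrArg CommaMorphism.left (c₁.w r))
    apply Over.OverMorphism.ext
    show (c₂.π.app o₂).left ≫ (bl₂ o₂ ≫ (D₁.map r).left) ≫ G₁ =
      (c₂.π.app o₂).left ≫ (bl₂ o₂ ≫ (D₁.map r).left) ≫ G₂
    rw [← Category.assoc, key, hagree, ← key, Category.assoc]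
  obtain ⟨m, a, ha⟩ := exists_eq (D₂ ⋙ totals S) ((totals S).mapCone c₂) hsys₂.isLimit.some
    ((totals S).obj Y) o₂ ((totals S).map (A ≫ F₁)) ((totals S).map (A ≫ F₂))
    (by
      show (totals S).map (c₂.π.app o₂) ≫ _ = (totals S).map (c₂.π.app o₂) ≫ _
      rw [← Functor.map_comp, ← Functor.map_comp, hA])
  have ha' : (D₂.map a).left ≫ A.left ≫ G₁ = (D₂.map a).left ≫ A.left ≫ G₂ :=
    Pair.Hom.ext (congrArg (·.left) ha)
  let r' : m.left ⟶ o := a.left ≫ r
  refine ⟨m.left.left, r'.left, ?_⟩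
  let B := bl₂ m ≫ bl m.left
  have hB : Pair.admBlowup.{u} B := comp_adm (hbl₂ m) (hbl m.left)
  haveI := isIso_Q hB
  have hfac : B ≫ (D.map r'.left).left = ((D₂.map a).left ≫ A.left) ≫ bl o := by
    show (bl₂ m ≫ bl m.left) ≫ (D.map r'.left).left = ((D₂.map a).left ≫ bl₂ o₂ ≫ (D₁.map r).left) ≫ bl o
    rw [Category.assoc, ← hsq r', reassoc_of% (hsq₂ a)]
    show bl₂ m ≫ (D₁.map (a.left ≫ r)).left ≫ bl o = _
    rw [D₁.map_comp, Over.comp_left, Category.assoc, Category.assoc, Category.assoc]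
  rw [← cancel_epi ((Pair.admBlowup.{u}).Q.map B), ← Category.assoc, ← Category.assoc, ← Functor.map_comp, hfac,
    Functor.map_comp, Category.assoc, Category.assoc, hG₁, hG₂, ← Functor.map_comp, ← Functor.map_comp,
    Category.assoc, Category.assoc, ha']

end Groth.Agent.ModPairLim
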