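import Groth.Agent.S2079
import Mathlib

set_option autoImplicit false
set_option backward.isDefEq.respectTransparency false
set_option backward.isDefEq.respectTransparency.types false

/-!
A proper morphism which is an isomorphism over a quasi-compact open embeds as a closed subscheme in a
proper finitely presented morphism with the same property.
-/

universe u

open CategoryTheory CategoryTheory.Limits AlgebraicGeometry

namespace Groth.Agent.ModPairLim

theorem exists_fp_model {X Y : Scheme.{u}} [CompactSpace X] [QuasiSeparatedSpace X] (s : Y ⟶ X)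
    [IsProper s] (U : X.Opens) (hU : IsCompact (U : Set X)) [IsIso (s ∣_ U)] :
    ∃ (P : Scheme.{u}) (p : P ⟶ X) (g : Y ⟶ P), IsProper p ∧ LocallyOfFinitePresentation p ∧
      IsClosedImmersion g ∧ g ≫ p = s ∧ IsIso (p ∣_ U) := by
  obtain ⟨A, _, _, D', c', hc', e, htr, h2⟩ := Groth.Agent.S2079.result s
  haveI : IsConnected A := IsCofiltered.isConnected A
  obtain ⟨a⟩ := (IsCofiltered.nonempty : Nonempty A)
  let E := D' ⋙ Over.forget X
  let cE := (Over.forget X).mapCone c'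
  have hcE : IsLimit cE := isLimitOfPreserves _ hc'
  haveI : ∀ {i j : A} (t : i ⟶ j), IsAffineHom (E.map t) := fun {i j} t => by
    haveI := htr i j t
    exact inferInstanceAs (IsAffineHom (D'.map t).left)
  let p : ∀ i, E.obj i ⟶ X := fun i => (D'.obj i).hom
  let k : ∀ i, c'.pt.left ⟶ E.obj i := fun i => (c'.π.app i).left
  let sA : c'.pt.left ⟶ X := c'.pt.hom
  have hk : ∀ i, k i ≫ p i = sA := fun i => Over.w _
  have hpt : ∀ {i j : A} (t : i ⟶ j), E.map t ≫ p j = p i := fun t => Over.w (D'.map t)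
  have hsA : e.hom.left ≫ s = sA := Over.w e.hom
  let σ : U.toScheme ⟶ c'.pt.left := inv (s ∣_ U) ≫ (s ⁻¹ᵁ U).ι ≫ e.inv.left
  have hσ : σ ≫ sA = U.ι := by
    have h1 : e.inv.left ≫ sA = s := Over.w e.inv
    simp only [σ, Category.assoc, h1, ← morphismRestrict_ι, IsIso.inv_hom_id_assoc]
  have hmonoY : Mono ((sA ⁻¹ᵁ U).ι ≫ sA) := by
    haveI : IsIso e.hom.left := inferInstanceAs (IsIso ((Over.forget X).map e.hom))
    haveI : IsIso (sA ∣_ U) := by
      rw [← hsA, morphismRestrict_comp]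
      infer_instance
    rw [← morphismRestrict_ι]
    infer_instance
  let Ua : (E.obj a).Opens := p a ⁻¹ᵁ U
  haveI : ∀ j : Over a, CompactSpace ((opensDiagram E a Ua).obj j) := fun j => by
    haveI : IsProper (p a) := (h2 a).2.1
    exact isCompact_iff_compactSpace.mp
      (QuasiCompact.isCompact_preimage _ Ua.2
        (QuasiCompact.isCompact_preimage _ U.2 hU))
  haveI : LocallyOfFiniteType (p a) := by
    haveI : IsProper (p a) := (h2 a).2.1
    infer_instance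
  let o : Over a := Over.mk (𝟙 a)
  let l : ∀ j : Over a, (opensDiagram E a Ua).obj j ⟶ U.toScheme := fun j =>
    (E.map j.hom).resLE Ua (E.map j.hom ⁻¹ᵁ Ua) le_rfl ≫ (p a ∣_ U)
  have hl : ∀ j : Over a, l j ≫ U.ι = (E.map j.hom ⁻¹ᵁ Ua).ι ≫ p j.left := fun j => by
    simp only [l, Category.assoc, morphismRestrict_ι]
    show (E.map j.hom).resLE Ua _ _ ≫ Ua.ι ≫ p a = _
    rw [Scheme.Hom.resLE_comp_ι_assoc, hpt]
  let τ : opensDiagram E a Ua ⟶ (Functor.const (Over a)).obj X :=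
    { app := fun j => (E.map j.hom ⁻¹ᵁ Ua).ι ≫ p j.left
      naturality := fun j j' t => by
        show (opensDiagram E a Ua).map t ≫ (E.map j'.hom ⁻¹ᵁ Ua).ι ≫ p j'.left = _ ≫ 𝟙 _
        rw [Category.comp_id]
        show (E.map t.left).resLE _ _ _ ≫ (E.map j'.hom ⁻¹ᵁ Ua).ι ≫ p j'.left = _
        rw [Scheme.Hom.resLE_comp_ι_assoc, hpt] }
  obtain ⟨j, t, ht⟩ := Scheme.exists_hom_comp_eq_comp_of_locallyOfFiniteType (opensDiagram E a Ua) τ
    (p a) (opensCone E cE a Ua) (isLimitOpensCone E cE hcE a Ua) (i := o)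
    ((E.map o.hom ⁻¹ᵁ Ua).ι ≫ E.map o.hom) (l o ≫ σ ≫ k a)
    (by show _ ≫ p o.left = _; rw [Category.assoc, hpt])
    (by show _ ≫ p o.left = _; simp only [Category.assoc, hk, hσ, hl])
    (by
      let Va := k a ⁻¹ᵁ Ua
      have hVa : Va = sA ⁻¹ᵁ U := by rw [← hk a]; rfl
      let q := (opensCone E cE a Ua).π.app o
      have hq : q ≫ (E.map o.hom ⁻¹ᵁ Ua).ι = Va.ι ≫ k a := Scheme.Hom.resLE_comp_ι _ _
      have h1 : q ≫ l o ≫ U.ι = Va.ι ≫ sA := by
        rw [hl, reassoc_of% hq]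
        show Va.ι ≫ k a ≫ p a = _
        rw [hk]
      have h2 : q ≫ l o ≫ σ = Va.ι := by
        have hr : Set.range (q ≫ l o ≫ σ) ⊆ Set.range (sA ⁻¹ᵁ U).ι := by
          rw [Scheme.Opens.range_ι]
          rintro _ ⟨x, rfl⟩
          show sA ((q ≫ l o ≫ σ) x) ∈ U
          rw [← Scheme.Hom.comp_apply]
          simp only [Category.assoc, hσ, h1]
          show sA (Va.ι x) ∈ U
          have : Va.ι x ∈ sA ⁻¹ᵁ U := hVa ▸ x.2
          exact this
        have hr' : Set.range Va.ι ⊆ Set.range (sA ⁻¹ᵁ U).ι := by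
          rw [Scheme.Opens.range_ι, Scheme.Opens.range_ι, hVa]
        haveI := hmonoY
        have hi : IsOpenImmersion.lift (sA ⁻¹ᵁ U).ι (q ≫ l o ≫ σ) hr =
            IsOpenImmersion.lift (sA ⁻¹ᵁ U).ι Va.ι hr' := by
          rw [← cancel_mono ((sA ⁻¹ᵁ U).ι ≫ sA), IsOpenImmersion.lift_fac_assoc,
            IsOpenImmersion.lift_fac_assoc]
          simp only [Category.assoc, hσ, h1]
        rw [← IsOpenImmersion.lift_fac (sA ⁻¹ᵁ U).ι (q ≫ l o ≫ σ) hr, hi, IsOpenImmersion.lift_fac]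
      show q ≫ _ = q ≫ _
      rw [reassoc_of% hq, reassoc_of% h2]
      show Va.ι ≫ k a ≫ E.map (𝟙 a) = _
      rw [E.map_id, Category.comp_id])
  let b := j.left
  let W : (E.obj b).Opens := E.map j.hom ⁻¹ᵁ Ua
  have hW : W = p b ⁻¹ᵁ U := by
    show E.map j.hom ⁻¹ᵁ (p a ⁻¹ᵁ U) = _
    rw [← Scheme.Hom.comp_preimage, hpt]
  have ht1 : (opensDiagram E a Ua).map t ≫ (E.map o.hom ⁻¹ᵁ Ua).ι ≫ E.map o.hom = W.ι ≫ E.map j.hom := by
    show (E.map t.left).resLE _ _ _ ≫ (E.map o.hom ⁻¹ᵁ Ua).ι ≫ E.map o.hom = _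
    rw [Scheme.Hom.resLE_comp_ι_assoc, ← E.map_comp, Over.w t]
  have ht2 : (opensDiagram E a Ua).map t ≫ l o = l j := by
    rw [← cancel_mono U.ι, Category.assoc, hl, hl]
    exact τ.naturality t |>.trans (Category.comp_id _)
  rw [reassoc_of% ht2] at ht
  have hkey : W.ι ≫ E.map j.hom = l j ≫ σ ≫ k a := ht1 ▸ ht
  haveI := (h2 b).2.1
  refine ⟨E.obj b, p b, e.inv.left ≫ k b, (h2 b).2.1, (h2 b).2.2, ?_, ?_, ?_⟩
  · haveI := (h2 b).1
    exact inferInstanceAs (IsClosedImmersion (e.inv.left ≫ (c'.π.app b).left))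
  · rw [Category.assoc, hk]
    exact Over.w e.inv
  · haveI : IsClosedImmersion (E.map j.hom) := htr _ _ _
    haveI : Mono ((p b ⁻¹ᵁ U).ι ≫ p b) := by
      refine ⟨fun {T} g h hgh => ?_⟩
      rw [← cancel_mono (p b ⁻¹ᵁ U).ι, ← cancel_mono (E.map j.hom)]
      have key : ∀ (r : T ⟶ (p b ⁻¹ᵁ U).toScheme), ∃ r' : T ⟶ W.toScheme,
          r' ≫ W.ι = r ≫ (p b ⁻¹ᵁ U).ι := fun r =>
        ⟨r ≫ (E.obj b).homOfLE hW.ge, by simp⟩
      obtain ⟨g', hg'⟩ := key g
      obtain ⟨h', hh'⟩ := key h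
      rw [← hg', ← hh', Category.assoc, Category.assoc, hkey]
      suffices g' ≫ l j = h' ≫ l j by simp only [reassoc_of% this]
      refine (cancel_mono U.ι).1 ?_
      refine (Category.assoc _ _ _).trans (Eq.trans ?_ (Category.assoc _ _ _).symm)
      refine (congrArg (g' ≫ ·) (hl j)).trans (Eq.trans ?_ (congrArg (h' ≫ ·) (hl j)).symm)
      refine (reassoc_of% hg') (p b) |>.trans (Eq.trans ?_ ((reassoc_of% hh') (p b)).symm)
      exact hgh
    haveI : Mono (p b ∣_ U) := by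
      haveI : Mono ((p b ∣_ U) ≫ U.ι) := by rw [morphismRestrict_ι]; infer_instance
      exact mono_of_mono _ U.ι
    have hr : Set.range (σ ≫ k b) ⊆ Set.range (p b ⁻¹ᵁ U).ι := by
      rw [Scheme.Opens.range_ι]
      rintro _ ⟨x, rfl⟩
      show p b ((σ ≫ k b) x) ∈ U
      rw [← Scheme.Hom.comp_apply, Category.assoc, hk, hσ]
      exact x.2
    haveI : IsSplitEpi (p b ∣_ U) := IsSplitEpi.mk'
      ⟨IsOpenImmersion.lift (p b ⁻¹ᵁ U).ι (σ ≫ k b) hr, by
        rw [← cancel_mono U.ι, Category.assoc, morphismRestrict_ι, IsOpenImmersion.lift_fac_assoc,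
          Category.assoc, hk, hσ, Category.id_comp]⟩
    exact isIso_of_mono_of_isSplitEpi _

end Groth.Agent.ModPairLim
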