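import Mathlib
import Groth.Agent.ModPairLim.IdealLe
import Groth.Agent.AlmostBlow.Basic

set_option autoImplicit false
set_option backward.isDefEq.respectTransparency false
set_option backward.isDefEq.respectTransparency.types false

/-!
Sections supported on a locally principal divisor in a limit come from stages.
-/

universe u

open CategoryTheory CategoryTheory.Limits AlgebraicGeometry Groth.Agent.FpqcDescent

namespace Groth.Agent.ModPairLim

theorem mem_ker_ι_iff {X : Scheme.{u}} (V : X.Opens) [QuasiCompact V.ι] (W : X.affineOpens) (a : Γ(X, W.1)) :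
    a ∈ V.ι.ker.ideal W ↔ X.presheaf.map (homOfLE (inf_le_left : W.1 ⊓ V ≤ W.1)).op a = 0 := by
  rw [Scheme.Hom.ker_apply, RingHom.mem_ker, Scheme.Opens.ι_app]
  have e : V.ι ''ᵁ V.ι ⁻¹ᵁ W.1 = W.1 ⊓ V := by
    rw [Scheme.Hom.image_preimage_eq_opensRange_inf, Scheme.Opens.opensRange_ι, inf_comm]
  have key : ∀ (O : X.Opens) (h : O ≤ W.1), O = W.1 ⊓ V → ((X.presheaf.map (homOfLE h).op) a = 0 ↔
      X.presheaf.map (homOfLE (inf_le_left : W.1 ⊓ V ≤ W.1)).op a = 0) := by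
    rintro O h rfl
    rfl
  exact key _ _ e

variable {I : Type u} [SmallCategory I] [IsCofiltered I] (E : I ⥤ Scheme.{u}) (c : Cone E)
  (hc : IsLimit c) [∀ {i j} (f : i ⟶ j), IsAffineHom (E.map f)]

include hc

theorem supportedOn_le_iSup (J : ∀ i, (E.obj i).IdealSheafData) (hJ : ∀ i, HTop.IsLocPrincipal (J i))
    (hmin : ∀ {i j : I} (t : i ⟶ j), J i = (J j).comap (E.map t)) (K : c.pt.IdealSheafData)
    (hK : ∀ i, K = (J i).comap (c.π.app i)) :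
    HTop.supportedOn K ≤ ⨆ i, (HTop.supportedOn (J i)).comap (c.π.app i) := by
  obtain ⟨i₀⟩ := (IsCofiltered.nonempty : Nonempty I)
  haveI := fun i => AlmostBlow.quasiCompact_awayFrom_ι (hJ i)
  haveI : QuasiCompact (HTop.awayFrom K).ι := AlmostBlow.quasiCompact_awayFrom_ι
    (hK i₀ ▸ AlmostBlow.isLocPrincipal_comap (hJ i₀) _)
  haveI := fun i => isAffineHom_π_app E c hc i
  refine Scheme.IdealSheafData.le_of_iSup_eq_top
    (fun W : (E.obj i₀).affineOpens => ⟨c.π.app i₀ ⁻¹ᵁ W.1, W.2.preimage _⟩) ?_ ?_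
  · refine top_le_iff.1 fun x _ => ?_
    obtain ⟨_, ⟨W, hW, rfl⟩, hxW, -⟩ := (E.obj i₀).isBasis_affineOpens.exists_subset_of_mem_open
      (Set.mem_univ (c.π.app i₀ x)) isOpen_univ
    exact TopologicalSpace.Opens.mem_iSup.2 ⟨⟨W, hW⟩, hxW⟩
  intro W f hf
  have hf' : c.pt.presheaf.map (homOfLE (inf_le_left :
      c.π.app i₀ ⁻¹ᵁ W.1 ⊓ HTop.awayFrom K ≤ c.π.app i₀ ⁻¹ᵁ W.1)).op f = 0 :=
    (mem_ker_ι_iff _ _ _).1 hf
  obtain ⟨k, t, b, rfl⟩ := exists_appLE_lift E c hc W f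
  have hWk : IsAffineOpen (E.map t ⁻¹ᵁ W.1) := W.2.preimage _
  let O : (E.obj k).Opens := E.map t ⁻¹ᵁ W.1 ⊓ HTop.awayFrom (J k)
  have hO : IsCompact (O : Set (E.obj k)) := by
    have h := QuasiCompact.isCompact_preimage (f := (HTop.awayFrom (J k)).ι) _
      (E.map t ⁻¹ᵁ W.1).2 hWk.isCompact
    have e : (O : Set (E.obj k)) = (HTop.awayFrom (J k)).ι '' ((HTop.awayFrom (J k)).ι ⁻¹' (E.map t ⁻¹ᵁ W.1)) := by
      rw [Set.image_preimage_eq_inter_range, Scheme.Opens.range_ι]; rfl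
    rw [e]
    exact h.image (HTop.awayFrom (J k)).ι.continuous
  have hpre : c.π.app i₀ ⁻¹ᵁ W.1 ⊓ HTop.awayFrom K = c.π.app k ⁻¹ᵁ O := by
    rw [hK k, AlmostBlow.awayFrom_comap, ← c.w t, Scheme.Hom.comp_preimage]
    rfl
  have hkill : (c.π.app k).app O ((E.obj k).presheaf.map (homOfLE (inf_le_left : O ≤ _)).op b) = 0 := by
    have := congrArg (c.pt.presheaf.map (homOfLE hpre.ge).op) hf'
    rw [map_zero] at this
    rw [← this, Scheme.Hom.app_eq_appLE]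
    simp only [← ConcreteCategory.comp_apply, Scheme.Hom.map_appLE, Scheme.Hom.appLE_map]
    erw [← ConcreteCategory.comp_apply, ← ConcreteCategory.comp_apply]
    rw [← Functor.map_comp, Scheme.Hom.map_appLE]
    erw [Scheme.Hom.appLE_map]
    rfl
  obtain ⟨m, s, hs⟩ := exists_app_map_eq_zero_of_isLimit E c hc hO _ hkill
  have hWm : IsAffineOpen (E.map s ⁻¹ᵁ (E.map t ⁻¹ᵁ W.1)) := hWk.preimage _
  let b' := (E.map s).app (E.map t ⁻¹ᵁ W.1) b
  have hb' : b' ∈ (HTop.supportedOn (J m)).ideal ⟨_, hWm⟩ := by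
    refine (mem_ker_ι_iff _ _ _).2 ?_
    have hOm : E.map s ⁻¹ᵁ (E.map t ⁻¹ᵁ W.1) ⊓ HTop.awayFrom (J m) = E.map s ⁻¹ᵁ O := by
      rw [hmin s, AlmostBlow.awayFrom_comap]
      rfl
    have h1 := congrArg ((E.obj m).presheaf.map (homOfLE hOm.le).op) hs
    rw [map_zero] at h1
    rw [← h1]
    simp only [b', Scheme.Hom.app_eq_appLE, ← ConcreteCategory.comp_apply, Scheme.Hom.map_appLE,
      Scheme.Hom.appLE_map]
    erw [← ConcreteCategory.comp_apply]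
    rw [Scheme.Hom.map_appLE]
  have hle : c.π.app i₀ ⁻¹ᵁ W.1 ≤ c.π.app m ⁻¹ᵁ (E.map s ⁻¹ᵁ (E.map t ⁻¹ᵁ W.1)) := by
    rw [← Scheme.Hom.comp_preimage, ← Scheme.Hom.comp_preimage, Category.assoc, ← E.map_comp, c.w]
  refine le_iSup (fun i => (HTop.supportedOn (J i)).comap (c.π.app i)) m _ ?_
  rw [ideal_comap_appLE _ _ ⟨_, hWm⟩ ⟨c.π.app i₀ ⁻¹ᵁ W.1, W.2.preimage _⟩ hle]
  have e : (c.π.app k).appLE (E.map t ⁻¹ᵁ W.1) (c.π.app i₀ ⁻¹ᵁ W.1)
      (by rw [← Scheme.Hom.comp_preimage, c.w]) b =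
      (c.π.app m).appLE (E.map s ⁻¹ᵁ (E.map t ⁻¹ᵁ W.1)) (c.π.app i₀ ⁻¹ᵁ W.1) hle b' := by
    simp only [b', Scheme.Hom.app_eq_appLE, ← ConcreteCategory.comp_apply, Scheme.Hom.appLE_comp_appLE]
    exact ConcreteCategory.congr_hom (appLE_congr (c.w s).symm _ _ _ _) b
  rw [e]
  exact Ideal.mem_map_of_mem _ hb'

end Groth.Agent.ModPairLim
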