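import Groth.Agent.ModPairLim.Sys
import Groth.Agent.ModPairLim.Supp
import Groth.Agent.ModPairLim.Blowup
import Groth.Agent.LimDesc.Tower
import Mathlib

set_option autoImplicit false
set_option backward.isDefEq.respectTransparency false
set_option backward.isDefEq.respectTransparency.types false

/-!
Pulling a system of modulus pairs back along an admissible blow-up of one stage: strict transforms.
-/

universe u

open CategoryTheory CategoryTheory.Limits AlgebraicGeometry ModPair

namespace Groth.Agent.ModPairLim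

/-- The inclusion of the sections supported on a pulled-back modulus, followed by a proper morphism which is an
isomorphism over the interior, is an admissible blow-up. -/
theorem isAdmBlowup_supp {X P : Scheme.{u}} {J : X.IdealSheafData} (p : P ⟶ X) [IsProper p]
    [IsIso (p ∣_ interior J)] :
    IsAdmBlowup (J.comap ((HTop.supportedOn (J.comap p)).subschemeι ≫ p)) J
      ((HTop.supportedOn (J.comap p)).subschemeι ≫ p) := by
  refine ⟨rfl, inferInstance, ?_⟩
  rw [morphismRestrict_comp]
  set 𝓘 := J.comap p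
  haveI : IsIso ((HTop.supportedOn 𝓘).subschemeι ∣_ p ⁻¹ᵁ interior J) := by
    have e : p ⁻¹ᵁ interior J = HTop.awayFrom 𝓘 := (AlmostBlow.awayFrom_comap p).symm
    rw [e]
    exact ModPairFrac.isIso_restrict _ _ (IsClosedImmersion.lift (HTop.supportedOn 𝓘).subschemeι
      (HTop.awayFrom 𝓘).ι (by rw [Scheme.IdealSheafData.ker_subschemeι]; exact le_rfl))
      (IsClosedImmersion.lift_fac _ _ _)
  infer_instance

theorem cartier_supp {X P : Scheme.{u}} {J : X.IdealSheafData} (hJ : BlowUp.IsEffCartierIdeal J)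
    (p : P ⟶ X) :
    BlowUp.IsEffCartierIdeal (J.comap ((HTop.supportedOn (J.comap p)).subschemeι ≫ p)) := by
  rw [Scheme.IdealSheafData.comap_comp]
  exact AlmostBlow.cartier_comap_subschemeι (AlmostBlow.isLocPrincipal_comap (fun x => by
    obtain ⟨U, hU, g, -, he⟩ := hJ x
    exact ⟨U, hU, g, he⟩) p)

/-- A dominance criterion: schematically dense open, dominant restriction. -/
theorem dominant_of_restrict {A B : Scheme.{u}} (f : A ⟶ B) (W : B.Opens) (hW : W.ι.ker = ⊥)
    [IsSchemeTheoreticallyDominant (f ∣_ W)] : IsSchemeTheoreticallyDominant f := by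
  refine ⟨le_bot_iff.1 ?_⟩
  calc f.ker ≤ ((f ⁻¹ᵁ W).ι ≫ f).ker := Scheme.Hom.le_ker_comp _ _
    _ = ⊥ := by
      rw [← morphismRestrict_ι, ← Scheme.IdealSheafData.map_ker, Scheme.Hom.ker_eq_bot,
        Scheme.IdealSheafData.map_bot, hW]

theorem dominant_restrict {A B : Scheme.{u}} (f : A ⟶ B) [IsSchemeTheoreticallyDominant f] [QuasiCompact f]
    (W : B.Opens) : IsSchemeTheoreticallyDominant (f ∣_ W) := by
  have h := (isPullback_morphismRestrict f W).flip
  rw [← h.isoPullback_hom_snd]
  infer_instance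

theorem exists_refine {S : Pair.{u}} {I : Type u} [SmallCategory I] [IsCofiltered I] {D : I ⥤ Over S}
    {c : Cone D} (h : LimSys S D c) (i : I) (P' : Pair.{u}) (s : P' ⟶ (D.obj i).left)
    (hs : Pair.admBlowup s) :
    ∃ (D' : Over i ⥤ Over S) (c' : Cone D'), LimSys S D' c' ∧
      ∃ (bl : ∀ l : Over i, (D'.obj l).left ⟶ (D.obj l.left).left) (b : c'.pt.left ⟶ c.pt.left),
        (∀ l, Pair.admBlowup (bl l)) ∧ Pair.admBlowup b ∧
        (∀ l, bl l ≫ (D.obj l.left).hom = (D'.obj l).hom) ∧ b ≫ c.pt.hom = c'.pt.hom ∧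
        (∀ {l m : Over i} (a : l ⟶ m), (D'.map a).left ≫ bl m = bl l ≫ (D.map a.left).left) ∧
        (∀ l : Over i, (c'.π.app l).left ≫ bl l = b ≫ (c.π.app l.left).left) ∧
        (∃ e : (D'.obj (Over.mk (𝟙 i))).left ⟶ P', e ≫ s = bl (Over.mk (𝟙 i))) ∧
        ((∀ (j k : I) (t : j ⟶ k), IsSchemeTheoreticallyDominant (D.map t).left.hom) →
          ∀ (l m : Over i) (a : l ⟶ m), IsSchemeTheoreticallyDominant (D'.map a).left.hom) := by
  classical
  obtain ⟨⟨hc0⟩, haff, hmin, hcomp, hqs, hpt⟩ := h
  haveI : IsConnected I := IsCofiltered.isConnected I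
  obtain ⟨hsmin, hsprop, hsiso⟩ := hs
  let Dt := D ⋙ totals S ⋙ Over.forget S.total
  let cS : Cone Dt := (Over.forget S.total).mapCone ((totals S).mapCone c)
  have hcS : IsLimit cS := isLimitOfPreserves (Over.forget S.total) hc0
  haveI : ∀ {j k : I} (t : j ⟶ k), IsAffineHom (Dt.map t) := fun {j k} t => haff j k t
  haveI : ∀ j, CompactSpace (Dt.obj j) := hcomp
  haveI : ∀ j, QuasiSeparatedSpace (Dt.obj j) := hqs
  let J : ∀ j, (Dt.obj j).IdealSheafData := fun j => (D.obj j).left.mod
  have hJc : ∀ j, BlowUp.IsEffCartierIdeal (J j) := fun j => (D.obj j).left.isEffCartier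
  let si : P'.total ⟶ Dt.obj i := s.hom
  haveI : IsProper si := hsprop
  haveI : IsIso (si ∣_ interior (J i)) := hsiso
  let tS : ∀ l : Over i, LimDesc.stage Dt si l ⟶ Dt.obj l.left := LimDesc.toStage Dt si
  have hU : ∀ {j k : I} (t : j ⟶ k), interior (J j) = Dt.map t ⁻¹ᵁ interior (J k) := fun t =>
    ModPairFrac.preimage_interior (hmin _ _ t)
  haveI hprop : ∀ l, IsProper (tS l) := fun l =>
    MorphismProperty.of_isPullback (LimDesc.isPullback_stage Dt si l) hsprop
  haveI hiso : ∀ l, IsIso (tS l ∣_ interior (J l.left)) := fun l => by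
    rw [hU l.hom]
    exact isIso_restrict_of_isPullback (LimDesc.isPullback_stage Dt si l) (interior (J i))
  let K : ∀ l, (LimDesc.stage Dt si l).IdealSheafData := fun l => (J l.left).comap (tS l)
  let Z : Over i → Scheme.{u} := fun l => (HTop.supportedOn (K l)).subscheme
  let ι : ∀ l, Z l ⟶ LimDesc.stage Dt si l := fun l => (HTop.supportedOn (K l)).subschemeι
  let b0 : ∀ l, Z l ⟶ Dt.obj l.left := fun l => ι l ≫ tS l
  let Zp : Over i → Pair.{u} := fun l => ⟨Z l, (J l.left).comap (b0 l), cartier_supp (hJc l.left) (tS l)⟩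
  let bl : ∀ l, Zp l ⟶ (D.obj l.left).left := fun l => ⟨b0 l, le_refl ((J l.left).comap (b0 l))⟩
  have hbl : ∀ l, Pair.admBlowup (bl l) := fun l => isAdmBlowup_supp (tS l)
  have hKlift : ∀ (l m : Over i) (a : l ⟶ m),
      BlowUp.IsEffCartierIdeal ((K m).comap (ι l ≫ LimDesc.trans Dt si a)) := by
    intro l m a
    rw [← Scheme.IdealSheafData.comap_comp, Category.assoc, LimDesc.trans_toStage, ← Category.assoc,
      Scheme.IdealSheafData.comap_comp, show (J m.left).comap (Dt.map a.left) = J l.left from (hmin _ _ a.left).symm]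
    exact (Zp l).isEffCartier
  choose tr htr using fun (l m : Over i) (a : l ⟶ m) => AlmostBlow.exists_lift _ (hKlift l m a)
  have htr' : ∀ {l m : Over i} (a : l ⟶ m), tr l m a ≫ ι m = ι l ≫ LimDesc.trans Dt si a :=
    fun a => htr _ _ a
  have htrb : ∀ {l m : Over i} (a : l ⟶ m), tr l m a ≫ b0 m = b0 l ≫ Dt.map a.left := fun a => by
    simp only [b0, tS, reassoc_of% (htr' a), LimDesc.trans_toStage, Category.assoc]
  have htrmin : ∀ {l m : Over i} (a : l ⟶ m), (Zp l).mod = (Zp m).mod.comap (tr l m a) := fun {l m} a => by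
    show (J l.left).comap (b0 l) = ((J m.left).comap (b0 m)).comap (tr l m a)
    rw [← Scheme.IdealSheafData.comap_comp, htrb, Scheme.IdealSheafData.comap_comp _ (b0 l)]
    exact congrArg (fun K => K.comap (b0 l)) (hmin _ _ a.left)
  let str : ∀ l, Zp l ⟶ S := fun l => bl l ≫ (D.obj l.left).hom
  let D' : Over i ⥤ Over S :=
    { obj := fun l => Over.mk (str l)
      map := fun {l m} a => Over.homMk ⟨tr l m a, (htrmin a).le⟩ (Pair.Hom.ext (by
        show tr l m a ≫ b0 m ≫ (D.obj m.left).hom.hom = b0 l ≫ (D.obj l.left).hom.hom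
        rw [reassoc_of% (htrb a)]
        exact congrArg (b0 l ≫ ·) (congrArg Pair.Hom.hom (Over.w (D.map a.left)))))
      map_id := fun l => over_pair_ext S (by
        show tr l l (𝟙 l) = 𝟙 _
        refine (cancel_mono (ι l)).1 ?_
        rw [htr', Category.id_comp]
        exact (congrArg (ι l ≫ ·) ((LimDesc.tower Dt si).map_id l)).trans (Category.comp_id _))
      map_comp := fun {l m n} a a' => over_pair_ext S (by
        show tr l n (a ≫ a') = tr l m a ≫ tr m n a'
        refine (cancel_mono (ι n)).1 ?_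
        rw [htr', Category.assoc, htr', reassoc_of% (htr' a)]
        exact congrArg (ι l ≫ ·) ((LimDesc.tower Dt si).map_comp a a')) }
  -- the limit
  let π₀ : cS.pt ⟶ Dt.obj i := cS.π.app i
  have hX : IsPullback (pullback.fst si π₀) (pullback.snd si π₀) si (cS.π.app i) := .of_hasPullback _ _
  let T := LimDesc.towerCone Dt si cS hX
  let hT := LimDesc.isLimitTowerCone Dt si cS hX hcS
  let p : T.pt ⟶ cS.pt := pullback.snd si π₀
  let IX : cS.pt.IdealSheafData := c.pt.left.mod
  have hintX : interior IX = π₀ ⁻¹ᵁ interior (J i) := ModPairFrac.preimage_interior (hpt i)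
  haveI : IsProper p := MorphismProperty.of_isPullback hX hsprop
  haveI : IsIso (p ∣_ interior IX) := by
    rw [hintX]
    exact isIso_restrict_of_isPullback hX (interior (J i))
  let K' := IX.comap p
  let Y := (HTop.supportedOn K').subscheme
  let ι' : Y ⟶ T.pt := (HTop.supportedOn K').subschemeι
  let Yp : Pair.{u} := ⟨Y, IX.comap (ι' ≫ p), cartier_supp c.pt.left.isEffCartier p⟩
  let b : Yp ⟶ c.pt.left := ⟨ι' ≫ p, le_refl (IX.comap (ι' ≫ p))⟩
  have hTp : ∀ l, T.π.app l ≫ tS l = p ≫ cS.π.app l.left := fun l => LimDesc.proj_toStage Dt si cS hX l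
  have hKT : ∀ l, K' = (K l).comap (T.π.app l) := fun l => by
    show IX.comap p = ((J l.left).comap (tS l)).comap (T.π.app l)
    rw [← Scheme.IdealSheafData.comap_comp, hTp, Scheme.IdealSheafData.comap_comp]
    exact congrArg (fun K => K.comap p) (hpt l.left)
  choose pr hpr using fun l => AlmostBlow.exists_lift (𝓘 := K l) (ι' ≫ T.π.app l) (by
    rw [Scheme.IdealSheafData.comap_comp, ← hKT l]
    exact AlmostBlow.cartier_comap_subschemeι (AlmostBlow.isLocPrincipal_comap (fun x => by
      obtain ⟨U, hU, g, -, he⟩ := c.pt.left.isEffCartier x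
      exact ⟨U, hU, g, he⟩) p))
  have hpr' : ∀ l, pr l ≫ ι l = ι' ≫ T.π.app l := hpr
  have hprb : ∀ l, pr l ≫ b0 l = (ι' ≫ p) ≫ cS.π.app l.left := fun l => by
    simp only [b0, reassoc_of% (hpr' l), Category.assoc]
    exact congrArg (ι' ≫ ·) (hTp l)
  have hprmod : ∀ l, Yp.mod = (Zp l).mod.comap (pr l) := fun l => by
    show IX.comap (ι' ≫ p) = ((J l.left).comap (b0 l)).comap (pr l)
    rw [← Scheme.IdealSheafData.comap_comp, hprb, Scheme.IdealSheafData.comap_comp _ (ι' ≫ p)]
    exact congrArg (fun K => K.comap (ι' ≫ p)) (hpt l.left)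
  let c' : Cone D' :=
    { pt := Over.mk (b ≫ c.pt.hom)
      π :=
        { app := fun l => Over.homMk ⟨pr l, (hprmod l).le⟩ (Pair.Hom.ext (by
            show pr l ≫ b0 l ≫ (D.obj l.left).hom.hom = (ι' ≫ p) ≫ c.pt.hom.hom
            rw [reassoc_of% (hprb l), Category.assoc]
            exact congrArg (fun f => ι' ≫ p ≫ f) (congrArg Pair.Hom.hom (Over.w (c.π.app l.left)))))
          naturality := fun l m a => over_pair_ext S (by
            show 𝟙 _ ≫ pr m = pr l ≫ tr l m a
            rw [Category.id_comp]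
            refine (cancel_mono (ι m)).1 ?_
            rw [Category.assoc, htr', hpr', reassoc_of% (hpr' l)]
            exact congrArg (ι' ≫ ·) (T.w a).symm) } }
  haveI : ∀ {l m : Over i} (a : l ⟶ m), IsAffineHom ((LimDesc.tower Dt si).map a) := fun a =>
    LimDesc.isAffineHom_tower_map Dt si a
  haveI : IsConnected (Over i) := IsCofiltered.isConnected (Over i)
  have hlim : IsLimit ((Over.forget S.total).mapCone ((totals S).mapCone c')) := by
    let lf : ∀ (t : Cone ((D' ⋙ totals S) ⋙ Over.forget S.total)),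
        {f : t.pt ⟶ Y // ∀ l, f ≫ pr l = t.π.app l} := fun t => by
      let tT : Cone (LimDesc.tower Dt si) :=
        { pt := t.pt
          π :=
            { app := fun l => (t.π.app l : t.pt ⟶ Z l) ≫ ι l
              naturality := fun l m a => by
                show 𝟙 _ ≫ t.π.app m ≫ ι m = (t.π.app l ≫ ι l) ≫ LimDesc.trans Dt si a
                rw [Category.id_comp, Category.assoc, ← htr' a, ← Category.assoc]
                exact congrArg (fun f : t.pt ⟶ Z m => f ≫ ι m) (t.w a).symm } }
      have hle : HTop.supportedOn K' ≤ (hT.lift tT).ker := by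
        refine (supportedOn_le_iSup (LimDesc.tower Dt si) T hT K (fun l =>
          AlmostBlow.isLocPrincipal_comap (fun x => by
            obtain ⟨U, hU, g, -, he⟩ := hJc l.left x
            exact ⟨U, hU, g, he⟩) (tS l)) (fun {l m} a => ?_) K' hKT).trans (iSup_le fun l => ?_)
        · show (J l.left).comap (tS l) = ((J m.left).comap (tS m)).comap (LimDesc.trans Dt si a)
          rw [← Scheme.IdealSheafData.comap_comp, LimDesc.trans_toStage, Scheme.IdealSheafData.comap_comp]
          exact congrArg (fun K => K.comap (tS l)) (hmin _ _ a.left)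
        · rw [← Scheme.IdealSheafData.le_map_iff_comap_le, Scheme.IdealSheafData.map_ker, hT.fac tT l]
          refine le_trans ?_ (Scheme.Hom.le_ker_comp (show t.pt ⟶ Z l from t.π.app l) (ι l))
          rw [Scheme.IdealSheafData.ker_subschemeι]
      refine ⟨IsClosedImmersion.lift ι' (hT.lift tT) (by rw [Scheme.IdealSheafData.ker_subschemeι]; exact hle),
        fun l => ?_⟩
      refine (cancel_mono (ι l)).1 ?_
      rw [Category.assoc, hpr', IsClosedImmersion.lift_fac_assoc, hT.fac tT l]
    exact
      { lift := fun t => (lf t).1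
        fac := fun t l => (lf t).2 l
        uniq := fun t m hm => by
          refine (cancel_mono ι').1 (hT.hom_ext fun l => ?_)
          rw [Category.assoc, Category.assoc, ← hpr' l, ← Category.assoc, ← Category.assoc]
          exact congrArg (fun f : t.pt ⟶ Z l => f ≫ ι l) ((hm l).trans ((lf t).2 l).symm) }
  refine ⟨D', c', ⟨⟨isLimitOfReflects (Over.forget S.total) hlim⟩, fun l m a => ?_, fun l m a => htrmin a,
    fun l => ?_, fun l => ?_, hprmod⟩, bl, b, hbl, ?_, fun l => rfl, rfl, fun {l m} a => Pair.Hom.ext (htrb a),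
    fun l => Pair.Hom.ext (hprb l), ?_, ?_⟩
  · haveI : IsAffineHom (LimDesc.trans Dt si a) := LimDesc.isAffineHom_tower_map Dt si a
    haveI : IsAffineHom (tr l m a ≫ ι m) := by rw [htr']; infer_instance
    exact MorphismProperty.of_postcomp (W := @IsAffineHom) (W' := @IsSeparated) (tr l m a) (ι m)
      inferInstance inferInstance
  · haveI : IsProper (b0 l) := (hbl l).2.1
    exact QuasiCompact.compactSpace_of_compactSpace (b0 l)
  · haveI : IsProper (b0 l) := (hbl l).2.1
    exact quasiSeparatedSpace_of_quasiSeparated (b0 l)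
  · exact isAdmBlowup_supp p
  · let o : Over i := Over.mk (𝟙 i)
    have hw : (ι o ≫ LimDesc.toBase Dt si o) ≫ si = b0 o := by
      show (ι o ≫ LimDesc.toBase Dt si o) ≫ si = ι o ≫ tS o
      rw [Category.assoc, (LimDesc.isPullback_stage Dt si o).w]
      show ι o ≫ tS o ≫ Dt.map (𝟙 i) = _
      exact congrArg (ι o ≫ ·) ((congrArg (tS o ≫ ·) (Dt.map_id i)).trans (Category.comp_id _))
    refine ⟨⟨ι o ≫ LimDesc.toBase Dt si o, ?_⟩, Pair.Hom.ext hw⟩
    show (J o.left).comap (b0 o) ≤ P'.mod.comap _
    rw [hsmin, ← Scheme.IdealSheafData.comap_comp, hw]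
    exact le_rfl
  · intro hdom l m a
    show IsSchemeTheoreticallyDominant (tr l m a)
    let W := b0 m ⁻¹ᵁ interior (J m.left)
    haveI : IsIso (b0 m ∣_ interior (J m.left)) := (hbl m).2.2
    haveI : IsIso (b0 l ∣_ Dt.map a.left ⁻¹ᵁ interior (J m.left)) := by
      rw [← hU a.left]; exact (hbl l).2.2
    haveI : IsSchemeTheoreticallyDominant (Dt.map a.left) := hdom _ _ a.left
    haveI := dominant_restrict (Dt.map a.left) (interior (J m.left))
    have hW : W.ι.ker = ⊥ := by
      have e : W = HTop.awayFrom (Zp m).mod := (AlmostBlow.awayFrom_comap (b0 m)).symm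
      rw [e]
      exact AlmostBlow.supportedOn_eq_bot (Zp m).isEffCartier
    haveI : IsSchemeTheoreticallyDominant (tr l m a ∣_ W) := by
      haveI : IsSchemeTheoreticallyDominant ((tr l m a ≫ b0 m) ∣_ interior (J m.left)) := by
        rw [htrb a, morphismRestrict_comp]
        infer_instance
      have e := morphismRestrict_comp (tr l m a) (b0 m) (interior (J m.left))
      have e' : tr l m a ∣_ W = ((tr l m a ≫ b0 m) ∣_ interior (J m.left)) ≫ inv (b0 m ∣_ interior (J m.left)) := by
        rw [e, Category.assoc, IsIso.hom_inv_id, Category.comp_id]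
      rw [e']
      infer_instance
    exact dominant_of_restrict (tr l m a) W hW

end Groth.Agent.ModPairLim
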