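import Groth.Prelude.Def_W4c6modpairsegaMP
import Groth.Agent.ModPairVal.Limit
import Groth.Agent.LimExist.Basic
import Groth.Agent.ModPairFrac.Basic
import Mathlib

set_option autoImplicit false
set_option backward.isDefEq.respectTransparency false
set_option backward.isDefEq.respectTransparency.types false

/-!
Systems of modulus pairs over a modulus pair with affine minimal transition morphisms, and their limits.
-/

universe u

open CategoryTheory CategoryTheory.Limits AlgebraicGeometry ModPair

namespace Groth.Agent.ModPairLim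

variable (S : Pair.{u})

/-- Total spaces of modulus pairs over `S`. -/
abbrev totals : Over S ⥤ Over S.total := Over.post (X := S) Pair.forget

/-- A cofiltered system of qcqs modulus pairs over `S` with affine minimal transition maps, together with a cone which
is the limit on total spaces and is minimal. -/
structure LimSys {I : Type u} [SmallCategory I] (D : I ⥤ Over S) (c : Cone D) : Prop where
  isLimit : Nonempty (IsLimit ((totals S).mapCone c))
  affine : ∀ (i j : I) (t : i ⟶ j), IsAffineHom (D.map t).left.hom
  minimal : ∀ (i j : I) (t : i ⟶ j), IsMinimal (D.obj i).left.mod (D.obj j).left.mod (D.map t).left.hom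
  compact : ∀ i, CompactSpace (D.obj i).left.total
  qs : ∀ i, QuasiSeparatedSpace (D.obj i).left.total
  pt_mod : ∀ i, c.pt.left.mod = (D.obj i).left.mod.comap (c.π.app i).left.hom

theorem over_pair_ext {A B : Over S} {f g : A ⟶ B} (h : f.left.hom = g.left.hom) : f = g :=
  Over.OverMorphism.ext (Pair.Hom.ext h)

/-- A limit of modulus pairs along affine minimal transition morphisms is the limit of the total spaces,
with the pulled-back modulus. -/
theorem LimSys.of_isLimit {I : Type u} [SmallCategory I] [IsCofiltered I] (D : I ⥤ Over S) (c : Cone D)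
    (hc : IsLimit c) [∀ (i j : I) (t : i ⟶ j), IsAffineHom (D.map t).left.hom]
    (hmin : ∀ (i j : I) (t : i ⟶ j), IsMinimal (D.obj i).left.mod (D.obj j).left.mod (D.map t).left.hom)
    [∀ i, CompactSpace (D.obj i).left.total] [∀ i, QuasiSeparatedSpace (D.obj i).left.total] :
    LimSys S D c := by
  haveI : IsConnected I := IsCofiltered.isConnected I
  obtain ⟨i₀⟩ := (IsCofiltered.nonempty : Nonempty I)
  let D₀ := D ⋙ totals S
  let DS := D₀ ⋙ Over.forget S.total
  haveI : ∀ {i j : I} (t : i ⟶ j), IsAffineHom (DS.map t) := fun {i j} t =>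
    inferInstanceAs (IsAffineHom (D.map t).left.hom)
  haveI : HasLimit DS := Groth.Agent.LimExist.hasLimit DS
  haveI : HasLimit D₀ := hasLimit_of_created D₀ (Over.forget S.total)
  let L := limit.cone D₀
  let hL : IsLimit L := limit.isLimit D₀
  let hLS : IsLimit ((Over.forget S.total).mapCone L) := isLimitOfPreserves _ hL
  let J : ∀ i, (DS.obj i).IdealSheafData := fun i => (D.obj i).left.mod
  have hJ : ∀ i, BlowUp.IsEffCartierIdeal (J i) := fun i => (D.obj i).left.isEffCartier
  let IL := (J i₀).comap (L.π.app i₀).left
  have hIL : ∀ i, IL = (J i).comap (L.π.app i).left := fun i => by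
    obtain ⟨m, a, b, -⟩ := IsCofilteredOrEmpty.cone_objs i₀ i
    have e : ∀ {k : I} (t : m ⟶ k), (J k).comap (L.π.app k).left = (J m).comap (L.π.app m).left := fun {k} t => by
      have h1 : J m = (J k).comap (D.map t).left.hom := hmin m k t
      have h2 : (L.π.app m).left ≫ (D.map t).left.hom = (L.π.app k).left := congrArg (·.left) (L.w t)
      rw [h1, ← h2, Scheme.IdealSheafData.comap_comp]
    show (J i₀).comap _ = _
    rw [e a, e b]
  let P : Pair.{u} := ⟨L.pt.left, IL,
    Groth.Agent.ModPairVal.cartier_limit DS _ hLS J hJ (fun i j t => hmin i j t) i₀⟩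
  let hP : P ⟶ S := ⟨L.pt.hom, by
    show IL ≤ S.mod.comap L.pt.hom
    have h1 : (L.π.app i₀).left ≫ (D.obj i₀).hom.hom = L.pt.hom := Over.w (L.π.app i₀)
    show (J i₀).comap _ ≤ _
    rw [← h1, Scheme.IdealSheafData.comap_comp]
    exact Scheme.IdealSheafData.comap_mono _ (D.obj i₀).hom.cond⟩
  let c2 : Cone D :=
    { pt := Over.mk hP
      π :=
        { app := fun i => Over.homMk ⟨(L.π.app i).left, (hIL i).le⟩ (Pair.Hom.ext (Over.w (L.π.app i)))
          naturality := fun i j t => over_pair_ext S (by
            show 𝟙 L.pt.left ≫ (L.π.app j).left = (L.π.app i).left ≫ (D.map t).left.hom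
            rw [Category.id_comp]
            exact (congrArg (·.left) (L.w t)).symm) } }
  let l : c2.pt ⟶ c.pt := hc.lift c2
  let r : (totals S).obj c.pt ⟶ L.pt := hL.lift ((totals S).mapCone c)
  have hr : ∀ i, r ≫ L.π.app i = (totals S).map (c.π.app i) := fun i => hL.fac _ i
  have hl : ∀ i, l ≫ c.π.app i = c2.π.app i := fun i => hc.fac _ i
  have hr' : ∀ i, r.left ≫ (L.π.app i).left = (c.π.app i).left.hom := fun i => congrArg (·.left) (hr i)
  let r2 : c.pt ⟶ c2.pt := Over.homMk ⟨r.left, by
      show c.pt.left.mod ≤ IL.comap r.left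
      rw [hIL i₀, ← Scheme.IdealSheafData.comap_comp, hr']
      exact (c.π.app i₀).left.cond⟩ (Pair.Hom.ext (Over.w r))
  have hr2 : ∀ i, r2 ≫ c2.π.app i = c.π.app i := fun i => over_pair_ext S (hr' i)
  have hrl : r2 ≫ l = 𝟙 c.pt := hc.hom_ext fun i => by rw [Category.assoc, hl, hr2, Category.id_comp]
  have hlr : (totals S).map l ≫ r = 𝟙 L.pt := hL.hom_ext fun i => by
    rw [Category.assoc, hr, ← Functor.map_comp, hl]
    exact (Category.id_comp _).symm
  have hrl' : r ≫ (totals S).map l = 𝟙 _ := by
    have : (totals S).map r2 = r := by ext; rfl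
    rw [← this, ← Functor.map_comp, hrl]
    exact (totals S).map_id _
  refine ⟨⟨?_⟩, fun i j t => inferInstance, hmin, fun i => inferInstance, fun i => inferInstance, fun i => ?_⟩
  · exact hL.ofIsoLimit (Cone.ext ⟨(totals S).map l, r, hlr, hrl'⟩ fun i => by
      show L.π.app i = (totals S).map l ≫ (totals S).map (c.π.app i)
      rw [← Functor.map_comp, hl]
      rfl)
  · refine le_antisymm (c.π.app i).left.cond ?_
    have h1 : IL ≤ c.pt.left.mod.comap l.left.hom := l.left.cond
    have h2 := Scheme.IdealSheafData.comap_mono r.left h1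
    have h3 : r.left ≫ l.left.hom = 𝟙 _ := congrArg (·.left) hrl'
    calc (D.obj i).left.mod.comap (c.π.app i).left.hom = ((J i).comap (L.π.app i).left).comap r.left := by
          rw [← Scheme.IdealSheafData.comap_comp]
          exact congrArg (fun f => (J i).comap f) (hr' i).symm
      _ = IL.comap r.left := congrArg (fun K => K.comap r.left) (hIL i).symm
      _ ≤ (c.pt.left.mod.comap l.left.hom).comap r.left := h2
      _ = c.pt.left.mod.comap (r.left ≫ l.left.hom) := (Scheme.IdealSheafData.comap_comp _ _ _).symm
      _ = c.pt.left.mod := (congrArg (fun f => c.pt.left.mod.comap f) h3).trans (Scheme.IdealSheafData.comap_id _)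

end Groth.Agent.ModPairLim
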